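import Cfsg.Agent.Coprime.Action
import Cfsg.Agent.LocalStructure.Elements
import Cfsg.Agent.PLocal.Cores

/-!
# The intersection of the invariant Sylow subgroups

For a coprime action of `R` on `Y` the subgroup `phat p Y R` is the intersection of all `R`-invariant
Sylow `p`-subgroups of `Y`; it is the largest `R`-invariant `p`-subgroup normalised by `C_Y(R)`.
-/

set_option autoImplicit false

namespace CfsgLib.FGS74.EquivZJ

open Subgroup Pointwise
open scoped commutatorElement

universe u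

variable {X : Type u} [Group X]

theorem mem_normalizer_iInf {ι : Type*} {H : ι → Subgroup X} {g : X}
    (h : ∀ i, ∀ x ∈ ⨅ i, H i, g * x * g⁻¹ ∈ H i) [Finite X] :
    g ∈ normalizer ((⨅ i, H i : Subgroup X) : Set X) := by
  refine mem_normalizer_fintype fun x hx => ?_
  exact mem_iInf.2 fun i => h i x hx

theorem commutator_mem_inf_of_normalizes {U V : Subgroup X} {u v : X} (hu : u ∈ U) (hv : v ∈ V)
    (hUV : u ∈ normalizer (V : Set X)) (hVU : v ∈ normalizer (U : Set X)) : ⁅u, v⁆ ∈ U ⊓ V := by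
  refine mem_inf.2 ⟨?_, ?_⟩
  · rw [commutatorElement_def, mul_assoc, mul_assoc, ← mul_assoc v]
    exact mul_mem hu ((mem_normalizer_iff.1 hVU _).1 (inv_mem hu))
  · rw [commutatorElement_def]
    exact mul_mem ((mem_normalizer_iff.1 hUV v).1 hv) (inv_mem hv)

theorem normalizer_le_normalizer_inf_centralizer {R : Subgroup X} {g : X} {Y : Subgroup X}
    (hgY : g ∈ normalizer (Y : Set X)) (hgR : g ∈ centralizer (R : Set X)) :
    g ∈ normalizer ((Y ⊓ centralizer (R : Set X) : Subgroup X) : Set X) := by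
  rw [mem_normalizer_iff]
  intro x
  simp only [mem_inf, ← mem_normalizer_iff.1 hgY x, and_congr_right_iff]
  intro _
  constructor
  · intro hx
    exact mul_mem (mul_mem hgR hx) (inv_mem hgR)
  · intro hx
    simpa [mul_assoc] using mul_mem (mul_mem (inv_mem hgR) hx) hgR

/-- `centralizer {a}` in the form `centralizer (zpowers a)`. -/
theorem centralizer_zpowers (a : X) :
    centralizer ((zpowers a : Subgroup X) : Set X) = centralizer ({a} : Set X) := by
  rw [zpowers_eq_closure, centralizer_closure]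

theorem le_normalizer_inf {A U V : Subgroup X} (hU : A ≤ normalizer (U : Set X))
    (hV : A ≤ normalizer (V : Set X)) : A ≤ normalizer ((U ⊓ V : Subgroup X) : Set X) :=
  (le_inf hU hV).trans inf_normalizer_le_normalizer_inf

theorem le_normalizer_centralizer_of {A : Subgroup X} {U : Subgroup X}
    (h : A ≤ normalizer (U : Set X)) :
    A ≤ normalizer ((centralizer (U : Set X) : Subgroup X) : Set X) := by
  intro g hg
  rw [mem_normalizer_iff]
  have hgU := mem_normalizer_iff.1 (h hg)
  intro x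
  simp only [mem_centralizer_iff, SetLike.mem_coe]
  constructor
  · intro hx u hu
    have := hx (g⁻¹ * u * g) ((hgU _).2 (by simpa [mul_assoc] using hu))
    calc u * (g * x * g⁻¹) = g * ((g⁻¹ * u * g) * x) * g⁻¹ := by group
      _ = g * (x * (g⁻¹ * u * g)) * g⁻¹ := by rw [this]
      _ = g * x * g⁻¹ * u := by group
  · intro hx u hu
    have := hx (g * u * g⁻¹) ((hgU _).1 hu)
    calc u * x = g⁻¹ * ((g * u * g⁻¹) * (g * x * g⁻¹)) * g := by group
      _ = g⁻¹ * ((g * x * g⁻¹) * (g * u * g⁻¹)) * g := by rw [this]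
      _ = x * u := by group

section
variable [Finite X] {p : ℕ} [hp : Fact p.Prime]

/-- The `R`-invariant Sylow `p`-subgroups of `Y`. -/
abbrev InvSylow (p : ℕ) (Y R : Subgroup X) :=
  {S : Sylow p ↥Y // R ≤ normalizer (((S : Subgroup ↥Y).map Y.subtype : Subgroup X) : Set X)}

/-- The intersection of the `R`-invariant Sylow `p`-subgroups of `Y`. -/
def phat (p : ℕ) (Y R : Subgroup X) : Subgroup X :=
  ⨅ S : InvSylow p Y R, ((S : Sylow p ↥Y) : Subgroup ↥Y).map Y.subtype

/-- Coprime action of an `r`-group `R` on `Y`. -/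
structure Acts (Y R : Subgroup X) : Prop where
  norm : R ≤ normalizer (Y : Set X)
  cop : (Nat.card ↥R).Coprime (Nat.card ↥Y)
  solv : Group.IsSolvable ↥R

namespace Acts

variable {Y R : Subgroup X}

theorem mono (h : Acts Y R) {U : Subgroup X} (hU : U ≤ Y) (hRU : R ≤ normalizer (U : Set X)) :
    Acts U R :=
  ⟨hRU, h.cop.coprime_dvd_right (card_dvd_of_le hU), h.solv⟩

omit [Finite X] in
theorem zpowers (h : Acts Y R) {a : X} (ha : a ∈ R) : Acts Y (Subgroup.zpowers a) :=
  ⟨(zpowers_le.2 ha).trans h.norm, h.cop.coprime_dvd_left (card_dvd_of_le (zpowers_le.2 ha)),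
    Group.isSolvable_of_comm fun x y => by
      obtain ⟨i, hi⟩ := mem_zpowers_iff.1 x.2
      obtain ⟨j, hj⟩ := mem_zpowers_iff.1 y.2
      exact Subtype.ext (show (x : X) * y = y * x from by
        rw [← hi, ← hj, ← zpow_add, ← zpow_add, add_comm])⟩

theorem phat_le (h : Acts Y R) : phat p Y R ≤ Y := by
  obtain ⟨S, hS⟩ := Coprime.exists_invariant_sylow h.norm h.cop (Or.inl h.solv) p
  exact (iInf_le _ (⟨S, hS⟩ : InvSylow p Y R)).trans (map_subtype_le _)

theorem isPGroup_phat (h : Acts Y R) : IsPGroup p ↥(phat p Y R) := by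
  obtain ⟨S, hS⟩ := Coprime.exists_invariant_sylow h.norm h.cop (Or.inl h.solv) p
  exact (S.2.map Y.subtype).to_le (iInf_le _ (⟨S, hS⟩ : InvSylow p Y R))

omit hp in
theorem R_le_normalizer_phat : R ≤ normalizer ((phat p Y R : Subgroup X) : Set X) := fun _ hr =>
  mem_normalizer_iInf fun S x hx => (mem_normalizer_iff.1 (S.2 hr) x).1 (mem_iInf.1 hx S)

/-- Conjugate of an invariant Sylow subgroup by an element normalising `Y` and centralising `R`. -/
theorem exists_conj_invSylow {g : X} (hgY : g ∈ normalizer (Y : Set X))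
    (hgR : g ∈ centralizer (R : Set X)) (S : InvSylow p Y R) :
    ∃ T : InvSylow p Y R,
      ((T : Sylow p ↥Y) : Subgroup ↥Y).map Y.subtype =
        (((S : Sylow p ↥Y) : Subgroup ↥Y).map Y.subtype).map (MulAut.conj g).toMonoidHom := by
  set S' := ((S : Sylow p ↥Y) : Subgroup ↥Y).map Y.subtype with hS'
  set T' := S'.map (MulAut.conj g).toMonoidHom with hT'
  have hle : T' ≤ Y := by
    rintro _ ⟨x, hx, rfl⟩
    exact (mem_normalizer_iff.1 hgY x).1 (map_subtype_le _ hx)
  have hc : Nat.card ↥(T'.subgroupOf Y) = p ^ (Nat.card ↥Y).factorization p := by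
    rw [Nat.card_congr (subgroupOfEquivOfLe hle).toEquiv, hT',
      card_map_of_injective (MulEquiv.injective _), hS',
      card_map_of_injective Y.subtype_injective, Sylow.card_eq_multiplicity]
  have he : ((Sylow.ofCard _ hc : Sylow p ↥Y) : Subgroup ↥Y).map Y.subtype = T' := by
    rw [Sylow.coe_ofCard, subgroupOf_map_subtype, inf_eq_left.2 hle]
  refine ⟨⟨Sylow.ofCard _ hc, ?_⟩, he⟩
  rw [he]
  intro r hr
  refine mem_normalizer_fintype fun x hx => ?_
  obtain ⟨y, hy, rfl⟩ := hx
  refine ⟨r * y * r⁻¹, (mem_normalizer_iff.1 (S.2 hr) y).1 hy, ?_⟩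
  have h1 : Commute g r := (mem_centralizer_iff.1 hgR r hr).symm
  simp only [MulEquiv.coe_toMonoidHom, MulAut.conj_apply]
  calc g * (r * y * r⁻¹) * g⁻¹ = (g * r) * y * (r⁻¹ * g⁻¹) := by group
    _ = (r * g) * y * (g⁻¹ * r⁻¹) := by rw [h1.eq, h1.inv_inv.eq]
    _ = r * (g * y * g⁻¹) * r⁻¹ := by group

theorem mem_normalizer_phat {g : X} (hgY : g ∈ normalizer (Y : Set X))
    (hgR : g ∈ centralizer (R : Set X)) : g ∈ normalizer ((phat p Y R : Subgroup X) : Set X) := by
  refine mem_normalizer_iInf fun S x hx => ?_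
  obtain ⟨T, hT⟩ := exists_conj_invSylow (inv_mem hgY) (inv_mem hgR) S
  have := mem_iInf.1 hx T
  rw [hT] at this
  obtain ⟨y, hy, hxy⟩ := this
  simp only [MulEquiv.coe_toMonoidHom, MulAut.conj_apply] at hxy
  rw [← hxy]
  simp only [mul_assoc, inv_inv, mul_inv_cancel_left, mul_inv_cancel, mul_one]
  exact hy

/-- Any two invariant Sylow subgroups are conjugate under `C_Y(R)`. -/
theorem exists_conj_invariant (h : Acts Y R) (S T : InvSylow p Y R) :
    ∃ c ∈ Y ⊓ centralizer (R : Set X),
      MulAut.conj c • ((S : Sylow p ↥Y) : Subgroup ↥Y).map Y.subtype =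
        ((T : Sylow p ↥Y) : Subgroup ↥Y).map Y.subtype := by
  obtain ⟨g, hg, hgeq⟩ := Coprime.exists_conj_map_sylow (S : Sylow p ↥Y) (T : Sylow p ↥Y)
  exact Coprime.exists_conj_eq_of_invariant h.norm h.cop (Or.inl h.solv) S.2 T.2 hg hgeq

/-- An invariant `p`-subgroup normalised by `C_Y(R)` lies in all invariant Sylow subgroups. -/
theorem le_phat (h : Acts Y R) {U : Subgroup X} (hUY : U ≤ Y) (hU : IsPGroup p ↥U)
    (hUR : R ≤ normalizer (U : Set X))
    (hC : Y ⊓ centralizer (R : Set X) ≤ normalizer (U : Set X)) : U ≤ phat p Y R := by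
  obtain ⟨S, hUS, hS⟩ := Coprime.exists_invariant_sylow_ge h.norm h.cop (Or.inl h.solv) hUY hU hUR
  refine le_iInf fun T => ?_
  obtain ⟨c, hc, hcT⟩ := h.exists_conj_invariant ⟨S, hS⟩ T
  rw [← hcT]
  rw [← Coprime.conj_smul_eq_self (hC hc)]
  exact pointwise_smul_le_pointwise_smul_iff.2 hUS

end Acts

end

end CfsgLib.FGS74.EquivZJ
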