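import Cfsg.Agent.FGS74.EquivZJ.Basic

/-!
# No invariant normal section of order divisible by `p`

In a group `Y = K X₁` without normal `p`-subgroups, an invariant normal subgroup `E` in which
`C_E(a)` is centralised by `R` has order prime to `p`.
-/

set_option autoImplicit false

namespace CfsgLib.FGS74.EquivZJ

open Subgroup Pointwise
open scoped commutatorElement

universe u

variable {X : Type u} [Group X] [Finite X] {p : ℕ} [Fact p.Prime]

theorem commutator_mul_eq_of_commute {e n r : X} (her : Commute e r) (hek : Commute e ⁅n, r⁆) :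
    ⁅e * n, r⁆ = ⁅n, r⁆ := by
  have h1 : e * r⁻¹ = r⁻¹ * e := her.inv_right.eq
  calc ⁅e * n, r⁆ = e * ⁅n, r⁆ * (r * e⁻¹ * r⁻¹) := by
        simp only [commutatorElement_def]; group
    _ = e * ⁅n, r⁆ * e⁻¹ := by rw [her.inv_left.symm.eq, mul_inv_cancel_right]
    _ = ⁅n, r⁆ := by rw [hek.eq, mul_inv_cancel_right]

variable {Y R K X₁ E : Subgroup X} {a : X}

theorem not_dvd_card_of_centralized (h : Acts Y R) (ha : a ∈ R)
    (hK : K ≤ Y ⊓ centralizer ({a} : Set X)) (hKR : ⁅K, R⁆ = K)
    (hKc : ∀ c ∈ Y, c ∈ centralizer ({a} : Set X) → ∀ r ∈ R, ⁅c, r⁆ ∈ K)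
    (hX1 : X₁ ≤ Y) (hX1p : IsPGroup p ↥X₁) (hX1R : R ≤ normalizer (X₁ : Set X))
    (hX1C : Y ⊓ centralizer (R : Set X) ≤ normalizer (X₁ : Set X))
    (hmax : phat p Y R ≤ X₁) (hgen : Y ≤ K ⊔ X₁)
    (hcore : ∀ U : Subgroup X, U ≤ Y → IsPGroup p ↥U → Y ≤ normalizer (U : Set X) → U = ⊥)
    (hE : E ≤ Y) (hEY : Y ≤ normalizer (E : Set X)) (hER : R ≤ normalizer (E : Set X))
    (hEa : E ⊓ centralizer ({a} : Set X) ≤ centralizer (R : Set X)) :
    ¬ p ∣ Nat.card ↥E := by
  have hEact : Acts E R := h.mono hE hER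
  have hKY : K ≤ Y := hK.trans inf_le_left
  have hKa : ∀ k ∈ K, Commute k a := fun k hk =>
    (mem_centralizer_iff.1 (mem_inf.1 (hK hk)).2 a rfl).symm
  -- `K` centralises `C_E(R)`
  have hKE : K ≤ centralizer ((E ⊓ centralizer (R : Set X) : Subgroup X) : Set X) := by
    set U := E ⊓ centralizer (R : Set X) with hU
    have h1 : ⁅⁅R, U⁆, K⁆ = ⊥ := by
      have : ⁅R, U⁆ = ⊥ := by
        rw [commutator_comm, commutator_eq_bot_iff_le_centralizer]
        exact inf_le_right
      rw [this, commutator_bot_left]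
    have h2 : ⁅⁅U, K⁆, R⁆ = ⊥ := by
      rw [commutator_eq_bot_iff_le_centralizer, commutator_le]
      intro c hc k hk
      have hck : ⁅c, k⁆ ∈ E := by
        have := commutator_le.1 ((le_normalizer_iff_commutator_le_left).1 (hKY.trans hEY))
        exact this c (mem_inf.1 hc).1 k hk
      refine hEa (mem_inf.2 ⟨hck, ?_⟩)
      have hca : Commute c a := (mem_centralizer_iff.1 (mem_inf.1 hc).2 a ha).symm
      rw [mem_centralizer_iff]
      intro b hb
      rw [Set.mem_singleton_iff.1 hb, commutatorElement_def]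
      exact (((hca.mul_left (hKa k hk)).mul_left hca.inv_left).mul_left (hKa k hk).inv_left).symm.eq
    have h3 := commutator_commutator_eq_bot_of_rotate h1 h2
    rwa [hKR, commutator_eq_bot_iff_le_centralizer] at h3
  -- `K` normalises every invariant Sylow subgroup of `E`
  have hKS : ∀ S : InvSylow p E R,
      K ≤ normalizer ((((S : Sylow p ↥E) : Subgroup ↥E).map E.subtype : Subgroup X) : Set X) := by
    intro S
    set S' := ((S : Sylow p ↥E) : Subgroup ↥E).map E.subtype with hS'
    rw [← hKR, commutator_le]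
    intro c hc r hr
    have hc' := mem_inf.1 (hK hc)
    -- Frattini argument
    have hcE := hEY hc'.1
    have hle : MulAut.conj c • S' ≤ E := by
      intro x hx
      rw [Coprime.mem_conj_smul] at hx
      have := (mem_normalizer_iff.1 hcE _).1 (map_subtype_le _ hx)
      simpa [mul_assoc] using this
    have hcard : Nat.card ↥((MulAut.conj c • S').subgroupOf E) =
        p ^ (Nat.card ↥E).factorization p := by
      rw [Nat.card_congr (subgroupOfEquivOfLe hle).toEquiv, Coprime.card_conj_smul, hS',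
        card_map_of_injective E.subtype_injective, Sylow.card_eq_multiplicity]
    obtain ⟨g, hg, hgeq⟩ := Coprime.exists_conj_map_sylow (S : Sylow p ↥E) (Sylow.ofCard _ hcard)
    rw [Sylow.coe_ofCard, subgroupOf_map_subtype, inf_eq_left.2 hle] at hgeq
    have hn : g⁻¹ * c ∈ Y ⊓ normalizer (S' : Set X) := by
      refine mem_inf.2 ⟨mul_mem (inv_mem (hE hg)) hc'.1, ?_⟩
      rw [Coprime.mem_normalizer_iff_conj_smul_eq, ← Coprime.conj_smul_conj_smul, ← hgeq,
        Coprime.conj_smul_conj_smul, inv_mul_cancel, map_one, one_smul]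
    have hza : Acts Y (zpowers a) := h.zpowers ha
    have hVn : R ≤ normalizer ((Y ⊓ normalizer (S' : Set X) : Subgroup X) : Set X) :=
      le_normalizer_inf h.norm (S.2.trans le_normalizer)
    obtain ⟨e, he, n, hn', heq⟩ := Coprime.exists_mul_eq_of_mem_centralizer (A := zpowers a)
      ((zpowers_le.2 ha).trans hER) ((zpowers_le.2 ha).trans hVn)
      (hza.cop.coprime_dvd_right (card_dvd_of_le (inf_le_left.trans hE))) (Or.inl hza.solv)
      hg hn (by rw [centralizer_zpowers]; simpa using hc'.2)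
    rw [centralizer_zpowers] at he hn'
    have he' := mem_inf.1 he
    obtain ⟨⟨hnY, hnS⟩, hna⟩ : (n ∈ Y ∧ n ∈ normalizer (S' : Set X)) ∧
        n ∈ centralizer ({a} : Set X) :=
      ⟨mem_inf.1 (mem_inf.1 hn').1, (mem_inf.1 hn').2⟩
    have heR := hEa (mem_inf.2 he')
    have hk : ⁅n, r⁆ ∈ K := hKc n hnY hna r hr
    have hce : c = e * n := by rw [← heq]; group
    rw [hce, commutator_mul_eq_of_commute ((mem_centralizer_iff.1 heR r hr).symm)
      (mem_centralizer_iff.1 (hKE hk) e (mem_inf.2 ⟨he'.1, heR⟩))]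
    rw [commutatorElement_def]
    exact mul_mem (mul_mem (mul_mem hnS (S.2 hr)) (inv_mem hnS)) (inv_mem (S.2 hr))
  -- the intersection of the invariant Sylow subgroups of `E` is trivial
  have hEYR : Y ⊓ centralizer (R : Set X) ≤ normalizer ((phat p E R : Subgroup X) : Set X) :=
    fun g hg => Acts.mem_normalizer_phat (hEY (mem_inf.1 hg).1) (mem_inf.1 hg).2
  have hPX : phat p E R ≤ X₁ :=
    (h.le_phat (hEact.phat_le.trans hE) hEact.isPGroup_phat Acts.R_le_normalizer_phat hEYR).trans
      hmax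
  have hXP : X₁ ⊓ E ≤ phat p E R :=
    hEact.le_phat inf_le_right (hX1p.to_le inf_le_left) (le_normalizer_inf hX1R hER)
      (le_normalizer_inf ((inf_le_inf_right _ hE).trans hX1C) (inf_le_left.trans le_normalizer))
  have hKP : K ≤ normalizer ((phat p E R : Subgroup X) : Set X) := fun k hk =>
    mem_normalizer_iInf fun S x hx => (mem_normalizer_iff.1 (hKS S hk) x).1 (mem_iInf.1 hx S)
  have heq : X₁ ⊓ E = phat p E R := le_antisymm hXP (le_inf hPX hEact.phat_le)
  have hP0 : phat p E R = ⊥ := by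
    refine hcore _ (hEact.phat_le.trans hE) hEact.isPGroup_phat (hgen.trans (sup_le hKP ?_))
    rw [← heq]
    exact le_normalizer_inf le_normalizer (hX1.trans hEY)
  rw [hP0] at heq
  -- `C_E(R)` is central, so there is a unique invariant Sylow subgroup
  have hcen : Y ≤ centralizer ((E ⊓ centralizer (R : Set X) : Subgroup X) : Set X) := by
    refine hgen.trans (sup_le hKE fun x hx => mem_centralizer_iff.2 fun c hc => ?_)
    have hc' := mem_inf.1 hc
    have hmem := commutator_mem_inf_of_normalizes hx hc'.1 (hEY (hX1 hx))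
      (hX1C (mem_inf.2 ⟨hE hc'.1, hc'.2⟩))
    rw [heq, mem_bot, commutatorElement_eq_one_iff_mul_comm] at hmem
    exact hmem.symm
  obtain ⟨S, hS⟩ := Coprime.exists_invariant_sylow hEact.norm hEact.cop (Or.inl hEact.solv) p
  have huniq : ((S : Subgroup ↥E).map E.subtype : Subgroup X) ≤ phat p E R := by
    refine le_iInf fun T => ?_
    obtain ⟨c, hc, hcT⟩ := hEact.exists_conj_invariant ⟨S, hS⟩ T
    rw [← hcT]
    intro x hx
    rw [Coprime.mem_conj_smul]
    have h1 : c * x = x * c := mem_centralizer_iff.1 (hcen (hE (map_subtype_le _ hx))) c hc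
    have h2 : c⁻¹ * x * c = x := by rw [mul_assoc, ← h1]; group
    rwa [h2]
  rw [hP0, le_bot_iff, map_eq_bot_iff_of_injective _ E.subtype_injective] at huniq
  intro hdvd
  exact S.ne_bot_of_dvd_card hdvd huniq

end CfsgLib.FGS74.EquivZJ
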