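import Cfsg.Agent.FGS74.EquivZJ.Quotient
import Cfsg.Agent.FGS74.EquivZJ.Semisimple
import Cfsg.Agent.LocalStructure.Cores
import Cfsg.Agent.Components.FStar

/-!
# `Y` is `p`-constrained

A normal invariant subgroup `Y = K X₁` without normal `p'`-subgroups has `F*(Y) = O_p(Y)`.
-/

set_option autoImplicit false
set_option linter.style.haveILetI false

namespace CfsgLib.FGS74.EquivZJ

open Subgroup Pointwise
open CfsgLib.LocalStructure
open scoped commutatorElement

universe u

variable {X : Type u} [Group X] [Finite X] {p : ℕ} [Fact p.Prime]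

/-- The index of the kernel in `E` is the order of the image. -/
theorem not_dvd_relIndex {X' : Type*} [Group X'] (f : X →* X') (E : Subgroup X)
    (h : ¬ p ∣ Nat.card ↥(E.map f)) : ¬ p ∣ (E ⊓ f.ker).relIndex E := by
  rw [inf_comm, inf_relIndex_right]
  rwa [relIndex_ker]

/-- `O^p` of a group with central normal `p`-subgroup of `p'`-index is a `p'`-group. -/
theorem coprime_card_pResOf_of_central {E N : Subgroup X} (hN : N ≤ E) (hNp : IsPGroup p ↥N)
    (hNc : E ≤ centralizer (N : Set X)) (hidx : ¬ p ∣ N.relIndex E) :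
    (Nat.card ↥(pResOf p E)).Coprime p := by
  haveI : (N.subgroupOf E).Normal :=
    (normal_subgroupOf_iff_le_normalizer hN).2 (hNc.trans (centralizer_le_normalizer _))
  obtain ⟨k, hk⟩ := IsPGroup.iff_card.1 hNp
  have hcN : Nat.card ↥(N.subgroupOf E) = p ^ k := by
    rw [Nat.card_congr (subgroupOfEquivOfLe hN).toEquiv, hk]
  obtain ⟨L, hL⟩ := exists_right_complement'_of_coprime (N := N.subgroupOf E) (by
    rw [hcN]; exact ((Fact.out : p.Prime).coprime_iff_not_dvd.2 hidx).pow_left k)
  have hcL : (Nat.card ↥L).Coprime p := by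
    rw [← (IsComplement'.symm hL).index_eq_card]
    exact ((Fact.out : p.Prime).coprime_iff_not_dvd.2 hidx).symm
  haveI hLn : L.Normal := by
    refine normalizer_eq_top_iff.1 (top_unique (hL.sup_eq_top.ge.trans (sup_le ?_ le_normalizer)))
    intro n hn
    refine (centralizer_le_normalizer _) (mem_centralizer_iff.2 fun l _ => ?_)
    exact Subtype.ext (mem_centralizer_iff.1 (hNc l.2) n hn).symm
  have hle : pResOf p E ≤ L.map E.subtype := by
    refine pResOf_le_of_forall fun g hg hc => ⟨⟨g, hg⟩, ?_, rfl⟩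
    have h1 : ((⟨g, hg⟩ : ↥E) : ↥E ⧸ L) ^ p ^ k = 1 := by
      have : L.index = p ^ k := by rw [IsComplement'.index_eq_card hL, hcN]
      rw [← this, index_eq_card]
      exact pow_card_eq_one'
    rw [← QuotientGroup.mk_pow, QuotientGroup.eq_one_iff] at h1
    exact mem_of_coprime_of_pow_mem (by rwa [← orderOf_coe]) h1
  refine Nat.Coprime.of_dvd_left (card_dvd_of_le hle) ?_
  rwa [card_map_of_injective E.subtype_injective]

variable {Y R K X₁ Q X₀ V : Subgroup X} {a : X}

theorem generalizedFitting_eq_pCore_of_setup [Y.Normal] (h : Acts Y R) (ha : a ∈ R)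
    (hab : ∀ r ∈ R, Commute a r)
    (hK : K ≤ Y ⊓ centralizer ({a} : Set X)) (hKR : ⁅K, R⁆ = K)
    (hKc : ∀ c ∈ Y, c ∈ centralizer ({a} : Set X) → ∀ r ∈ R, ⁅c, r⁆ ∈ K)
    (hX1 : X₁ ≤ Y) (hX1p : IsPGroup p ↥X₁) (hX1R : R ≤ normalizer (X₁ : Set X))
    (hX1C : Y ⊓ centralizer (R : Set X) ≤ normalizer (X₁ : Set X))
    (hmax : phat p Y R ≤ X₁) (hgen : Y ≤ K ⊔ X₁)
    (hp' : ∀ U : Subgroup X, U ≤ Y → (Nat.card ↥U).Coprime p → Y ≤ normalizer (U : Set X) → U = ⊥)
    (hVX : V ≤ X₁) (hVY : Y ≤ normalizer (V : Set X))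
    (hX0 : X₀ ≤ X₁) (hself : X₀ ⊓ centralizer (V : Set X) ≤ V)
    (hQ : Q ≤ X₀) (hKQ : K ≤ normalizer (Q : Set X))
    (hQmax : ∀ U : Subgroup X, U ≤ K → IsPGroup p ↥U → K ≤ normalizer (U : Set X) → U ≤ Q)
    (hloc : ∀ y ∈ K, (orderOf y).Coprime p → y ∈ centralizer (Q : Set X) →
      y ∈ centralizer (R : Set X)) :
    Cfsg.generalizedFittingSubgroup ↥Y = Cfsg.pCore p ↥Y := by
  set N₀ := Cfsg.pCoreOf p Y with hN₀
  haveI hN₀n : N₀.Normal := pCoreOf_normal Y
  have hN₀Y : N₀ ≤ Y := pCoreOf_le Y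
  have hN₀p : IsPGroup p ↥N₀ := pCoreOf_isPGroup Y
  have hN₀X : N₀ ≤ X₁ :=
    (h.le_phat hN₀Y hN₀p le_normalizer_of_normal le_normalizer_of_normal).trans hmax
  have hVN : V ≤ N₀ := le_pCoreOf (hVX.trans hX1) hVY (hX1p.to_le hVX)
  set E := Y ⊓ centralizer (N₀ : Set X) with hE
  haveI hEn : E.Normal := by rw [hE]; infer_instance
  have hQY : Q ≤ Y := hQ.trans (hX0.trans hX1)
  have hKY : K ≤ Y := hK.trans inf_le_left
  -- `Q ⊓ E ≤ N₀`
  have hQE : Q ⊓ E ≤ N₀ := by
    intro x hx
    have hx' := mem_inf.1 hx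
    refine hVN (hself (mem_inf.2 ⟨hQ hx'.1, ?_⟩))
    exact mem_centralizer_iff.2 fun v hv =>
      mem_centralizer_iff.1 (mem_inf.1 hx'.2).2 v (hVN hv)
  -- the `p'`-elements of `K ⊓ E` are centralised by `R`
  set U := K ⊓ E with hU
  have hUres : pResOf p U ≤ centralizer (R : Set X) := by
    refine pResOf_le_of_forall fun y hy hyc => hloc y (mem_inf.1 hy).1 hyc ?_
    have hyE := (mem_inf.1 hy).2
    refine mem_centralizer_of_stab (A := Q ⊓ E) (hN₀p.to_le hQE) hyc ?_ ?_
    · exact mem_centralizer_iff.2 fun q hq => mem_centralizer_iff.1 (mem_inf.1 hyE).2 q (hQE hq)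
    · intro q hq
      have := commutator_mem_inf_of_normalizes hyE hq (hKQ (mem_inf.1 hy).1)
        (le_normalizer_of_normal (H := E) (mem_top q))
      rwa [inf_comm]
  have hKU : K ≤ normalizer (U : Set X) := le_normalizer_inf le_normalizer le_normalizer_of_normal
  have hRK : R ≤ normalizer (K : Set X) := by
    rw [← hKR]
    exact normalizer_commutator_ge_right K R
  have hKres : K ≤ normalizer ((pResOf p U : Subgroup X) : Set X) :=
    hKU.trans (normalizer_le_normalizer_pResOf U)
  have hKcen : K ≤ centralizer ((pResOf p U : Subgroup X) : Set X) := by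
    have h1 : ⁅⁅R, pResOf p U⁆, K⁆ = ⊥ := by
      have : ⁅R, pResOf p U⁆ = ⊥ := by
        rw [commutator_comm, commutator_eq_bot_iff_le_centralizer]
        exact hUres
      rw [this, commutator_bot_left]
    have h2 : ⁅⁅pResOf p U, K⁆, R⁆ = ⊥ := by
      rw [commutator_eq_bot_iff_le_centralizer]
      exact ((le_normalizer_iff_commutator_le_left).1 hKres).trans hUres
    have h3 := commutator_commutator_eq_bot_of_rotate h1 h2
    rwa [hKR, commutator_eq_bot_iff_le_centralizer] at h3
  -- `U ≤ C(R) N₀`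
  have hUT : ∀ u ∈ U, ∃ c ∈ centralizer (R : Set X), ∃ n ∈ N₀, u = c * n := by
    have hT₀ : Cfsg.pCoreOf p U ≤ N₀ := by
      refine le_trans (le_inf ?_ ?_) hQE
      · exact hQmax _ ((pCoreOf_le U).trans inf_le_left) (pCoreOf_isPGroup U)
          (hKU.trans (normalizer_le_normalizer_pCoreOf U))
      · exact (pCoreOf_le U).trans inf_le_right
    haveI hres := pResidual_normal (p := p) (G := ↥U)
    obtain ⟨T⟩ : Nonempty (Sylow p ↥U) := inferInstance
    have hcenT : Cfsg.pResidual p ↥U ≤ centralizer ((T : Subgroup ↥U) : Set ↥U) := by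
      intro x hx
      refine mem_centralizer_iff.2 fun t _ => Subtype.ext ?_
      have hxm : (x : X) ∈ pResOf p U := by
        rw [← map_pResidual]; exact mem_map_of_mem _ hx
      exact (mem_centralizer_iff.1 (hKcen (mem_inf.1 t.2).1) x hxm).symm
    haveI hTn : (T : Subgroup ↥U).Normal := normalizer_eq_top_iff.1 (top_unique
      ((sylow_sup_pResidual T).ge.trans
        (sup_le le_normalizer (hcenT.trans (centralizer_le_normalizer _)))))
    intro u hu
    have hu' : (⟨u, hu⟩ : ↥U) ∈ Cfsg.pResidual p ↥U ⊔ (T : Subgroup ↥U) := by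
      rw [sup_comm, sylow_sup_pResidual]; exact mem_top _
    obtain ⟨c, hc, t, ht, hct⟩ := mem_sup_of_normal_left.1 hu'
    refine ⟨c, hUres ?_, t, hT₀ ?_, congrArg Subtype.val hct.symm⟩
    · rw [← map_pResidual]; exact mem_map_of_mem _ hc
    · exact mem_map_of_mem _ (CfsgLib.LocalStructure.le_pCore T.2 ht)
  -- `[C_E(a), R] ≤ N₀`
  set C := E ⊓ centralizer ({a} : Set X) with hC
  have hRC : R ≤ normalizer (C : Set X) := by
    refine le_normalizer_inf le_normalizer_of_normal ?_
    rw [← centralizer_zpowers]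
    refine le_normalizer_centralizer_of fun r hr => centralizer_le_normalizer _ ?_
    rw [centralizer_zpowers, mem_centralizer_iff]
    intro b hb
    rw [Set.mem_singleton_iff.1 hb]
    exact (hab r hr).eq
  have hCU : ⁅C, R⁆ ≤ U := by
    refine le_inf (commutator_le.2 fun c hc r hr => ?_)
      ((Coprime.commutator_le_of_le_normalizer hRC).trans inf_le_left)
    exact hKc c (mem_inf.1 (mem_inf.1 hc).1).1 (mem_inf.1 hc).2 r hr
  have hCN : ⁅C, R⁆ ≤ N₀ := by
    have hCY : C ≤ Y := inf_le_left.trans inf_le_left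
    rw [← Coprime.commutator_commutator_eq hRC (h.mono hCY hRC).cop, commutator_le]
    intro x hx r hr
    obtain ⟨c, hc, n, hn, rfl⟩ := hUT x (hCU hx)
    have hcr : Commute c r := (mem_centralizer_iff.1 hc r hr).symm
    have : ⁅c * n, r⁆ = c * ⁅n, r⁆ * c⁻¹ := by
      have h1 : c * r⁻¹ = r⁻¹ * c := hcr.inv_right.eq
      calc ⁅c * n, r⁆ = c * ⁅n, r⁆ * (r * c⁻¹ * r⁻¹) := by
            simp only [commutatorElement_def]; group
        _ = c * ⁅n, r⁆ * c⁻¹ := by rw [hcr.inv_left.symm.eq, mul_inv_cancel_right]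
    rw [this]
    refine hN₀n.conj_mem _ ?_ c
    rw [commutatorElement_def, mul_assoc, mul_assoc, ← mul_assoc r]
    exact mul_mem hn (hN₀n.conj_mem _ (inv_mem hn) r)
  -- pass to `X ⧸ N₀`
  let f := QuotientGroup.mk' N₀
  have hker : f.ker = N₀ := QuotientGroup.ker_mk' N₀
  have hkerY : f.ker ≤ Y := hker.le.trans hN₀Y
  have hkerp : IsPGroup p ↥f.ker := by rw [hker]; exact hN₀p
  have hEY : E ≤ Y := inf_le_left
  have hq : ¬ p ∣ Nat.card ↥(E.map f) := by
    refine not_dvd_card_of_centralized (Y := Y.map f) (R := R.map f) (K := K.map f)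
      (X₁ := X₁.map f) (E := E.map f) (a := f a) (h.map f) (mem_map_of_mem f ha) ?_ ?_ ?_
      (map_mono hX1) (hX1p.map f) (le_normalizer_map f hX1R) ?_ ?_ ?_ ?_ (map_mono hEY)
      (le_normalizer_map f le_normalizer_of_normal) (le_normalizer_map f le_normalizer_of_normal) ?_
    · rw [← h.map_centralizer_singleton f ha]
      exact map_mono hK
    · rw [← map_commutator, hKR]
    · rintro _ ⟨c, hc, rfl⟩ hca _ ⟨r, hr, rfl⟩
      have : f c ∈ (Y ⊓ centralizer ({a} : Set X)).map f := by
        rw [h.map_centralizer_singleton f ha]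
        exact mem_inf.2 ⟨mem_map_of_mem f hc, hca⟩
      obtain ⟨c', hc', hcc⟩ := this
      rw [← hcc, ← map_commutatorElement]
      exact mem_map_of_mem f (hKc c' (mem_inf.1 hc').1 (mem_inf.1 hc').2 r hr)
    · rw [← h.map_centralizer f]
      exact le_normalizer_map f hX1C
    · exact (h.phat_map_le_of_isPGroup f hkerY hkerp).trans (map_mono hmax)
    · rw [← Subgroup.map_sup]
      exact map_mono hgen
    · intro U' hU' hU'p hU'Y
      obtain ⟨hWY, hWmap⟩ := map_eq_of_le_of_comap f hU' hkerY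
      have : U'.comap f ≤ N₀ := le_pCoreOf hWY (le_normalizer_comap f hU'Y)
        (hU'p.comap_of_ker_isPGroup f hkerp)
      rw [← hWmap, Subgroup.map_eq_bot_iff, hker]
      exact this
    · have hCE : (E ⊓ centralizer ({a} : Set X)).map f =
          E.map f ⊓ centralizer ({f a} : Set (X ⧸ N₀)) :=
        (h.mono hEY le_normalizer_of_normal).map_centralizer_singleton f ha
      rw [← hCE]
      rintro _ ⟨c, hc, rfl⟩
      rw [mem_centralizer_iff]
      rintro _ ⟨r, hr, rfl⟩
      have h1 : f ⁅c, r⁆ = 1 := by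
        rw [← MonoidHom.mem_ker, hker]
        exact hCN (commutator_mem_commutator hc hr)
      rw [map_commutatorElement, commutatorElement_eq_one_iff_mul_comm] at h1
      exact h1.symm
  -- `E ≤ N₀`
  have hEN : E ≤ N₀ := by
    have hidx : ¬ p ∣ (E ⊓ N₀).relIndex E := hker ▸ not_dvd_relIndex f E hq
    have hcop := coprime_card_pResOf_of_central (inf_le_left : E ⊓ N₀ ≤ E)
      (hN₀p.to_le inf_le_right)
      ((show E ≤ centralizer (N₀ : Set X) from inf_le_right).trans
        (centralizer_le (SetLike.coe_subset_coe.2 (inf_le_right : E ⊓ N₀ ≤ N₀)))) hidx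
    have hres := hp' _ ((pResOf_le E).trans hEY) hcop
      (le_trans le_normalizer_of_normal (normalizer_le_normalizer_pResOf E))
    exact le_pCoreOf hEY le_normalizer_of_normal (pResOf_eq_bot.1 hres)
  -- the criterion
  have hcen : centralizer (Cfsg.pCore p ↥Y : Set ↥Y) ≤ Cfsg.pCore p ↥Y := by
    intro x hx
    have hxE : (x : X) ∈ E := mem_inf.2 ⟨x.2, mem_centralizer_iff.2 (by
      rintro _ ⟨n, hn, rfl⟩
      exact congrArg Subtype.val (mem_centralizer_iff.1 hx n hn))⟩
    obtain ⟨y, hy, hyx⟩ := hEN hxE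
    rwa [← Subtype.ext hyx]
  refine Components.generalizedFitting_eq_pCore p ?_ ?_
  · rw [Components.layer_eq_bot_iff]
    intro L hL
    have hle : L ≤ Cfsg.pCore p ↥Y := (Components.IsComponent.le_layer hL).trans
      (Components.layer_le_centralizer_fittingSubgroup.trans
        ((centralizer_le (SetLike.coe_subset_coe.2
          (Components.pCore_le_fittingSubgroup p))).trans hcen))
    haveI : Group.IsNilpotent ↥L :=
      ((CfsgLib.LocalStructure.pCore_isPGroup (p := p) (G := ↥Y)).to_le hle).isNilpotent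
    exact Components.IsComponent.not_isSolvable hL inferInstance
  · intro N hNn hNc
    have hd : Cfsg.pCore p ↥Y ⊓ N = ⊥ := by
      obtain ⟨k, hk⟩ := IsPGroup.iff_card.1
        (CfsgLib.LocalStructure.pCore_isPGroup (p := p) (G := ↥Y))
      refine inf_eq_bot_of_coprime ?_
      rw [hk]
      exact (hNc.symm).pow_left k
    haveI := CfsgLib.LocalStructure.pCore_normal (p := p) (G := ↥Y)
    have hle : N ≤ Cfsg.pCore p ↥Y := by
      refine le_trans ?_ hcen
      rw [← commutator_eq_bot_iff_le_centralizer, eq_bot_iff, ← hd, inf_comm]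
      exact commutator_le_inf _ _
    rw [← hd, inf_eq_right.2 hle]

end CfsgLib.FGS74.EquivZJ
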