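import Cfsg.Agent.FGS74.EquivZJ.Basic
import Cfsg.Prelude.Def_ConjugacyFunctors

/-!
# The functor hypothesis of the equivariant ZJ theorem
-/

set_option autoImplicit false

namespace CfsgLib.FGS74.EquivZJ

open Subgroup Pointwise

universe u

/-- A characteristic, self-centralising functor satisfying the equivariant ZJ theorem. -/
structure GoodFunctor (p : ℕ) (W : ∀ (Q : Type u) [Group Q], Subgroup Q) : Prop where
  char : Cfsg.IsCharPFunctor p W
  self_centralizing : ∀ (Q : Type u) [Group Q] [Finite Q], IsPGroup p Q →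
    centralizer (W Q : Set Q) ≤ W Q
  zj : ∀ (X : Type u) [Group X] [Finite X] (Y R : Subgroup X), Acts Y R →
    (∃ r : ℕ, r.Prime ∧ IsPGroup r ↥R ∧ (Nat.card ↥Y).Coprime r) →
    Cfsg.generalizedFittingSubgroup ↥Y = Cfsg.pCore p ↥Y →
    Y ≤ normalizer ((Cfsg.inducedFunctor W (phat p Y R) : Subgroup X) : Set X)

namespace GoodFunctor

variable {p : ℕ} {W : ∀ (Q : Type u) [Group Q], Subgroup Q}
variable {X : Type u} [Group X] {X' : Type u} [Group X'] {P : Subgroup X}

theorem induced_le (W : ∀ (Q : Type u) [Group Q], Subgroup Q) (P : Subgroup X) :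
    Cfsg.inducedFunctor W P ≤ P :=
  map_subtype_le _

variable [Finite X] (hW : GoodFunctor p W)
include hW

theorem induced_self_centralizing (hP : IsPGroup p ↥P) :
    P ⊓ centralizer ((Cfsg.inducedFunctor W P : Subgroup X) : Set X) ≤
      Cfsg.inducedFunctor W P := by
  intro x hx
  have hx' := mem_inf.1 hx
  refine ⟨⟨x, hx'.1⟩, hW.self_centralizing ↥P hP ?_, rfl⟩
  rw [mem_centralizer_iff]
  intro w hw
  exact Subtype.ext (mem_centralizer_iff.1 hx'.2 _ (mem_map_of_mem _ hw))

theorem induced_map (hP : IsPGroup p ↥P) (f : X →* X') (hf : P ⊓ f.ker = ⊥) :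
    (Cfsg.inducedFunctor W P).map f = Cfsg.inducedFunctor W (P.map f) := by
  have hinj : Function.Injective (f.subgroupMap P) := by
    intro x y hxy
    have hk : (x : X)⁻¹ * y ∈ P ⊓ f.ker := mem_inf.2 ⟨mul_mem (inv_mem x.2) y.2, by
      rw [MonoidHom.mem_ker, map_mul, map_inv]
      have := congrArg Subtype.val hxy
      simp only [MonoidHom.subgroupMap_apply_coe] at this
      rw [this, inv_mul_cancel]⟩
    rw [hf, mem_bot, inv_mul_eq_one] at hk
    exact Subtype.ext hk
  let e : ↥P ≃* ↥(P.map f) :=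
    MulEquiv.ofBijective (f.subgroupMap P) ⟨hinj, f.subgroupMap_surjective P⟩
  have := hW.char.2 ↥P ↥(P.map f) hP e
  rw [Cfsg.inducedFunctor, Cfsg.inducedFunctor, map_map, ← this, map_map]
  rfl

theorem normalizer_le (hP : IsPGroup p ↥P) :
    normalizer (P : Set X) ≤ normalizer ((Cfsg.inducedFunctor W P : Subgroup X) : Set X) := by
  intro g hg
  have hc : P.map (MulAut.conj g).toMonoidHom = P := Coprime.conj_smul_eq_self hg
  have := hW.induced_map hP (MulAut.conj g).toMonoidHom
    (by rw [(MonoidHom.ker_eq_bot_iff _).2 (MulEquiv.injective _), inf_bot_eq])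
  rw [hc] at this
  refine mem_normalizer_fintype fun x hx => ?_
  rw [← this]
  exact ⟨x, hx, rfl⟩

end GoodFunctor

end CfsgLib.FGS74.EquivZJ
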