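import Cfsg.Agent.FGS74.EquivZJ.Basic
import Cfsg.Agent.Signalizer.FStarLemmas
import Cfsg.Agent.Balance.Sections
import Cfsg.Agent.Components.FStar
import Cfsg.Agent.LocalStructure.Cores

/-!
# The local hypothesis

If `R` centralises `O^p(F*(C))` and `K = [K, R]` is subnormal in `C`, the elements of order prime to
`p` of `K` centralising `O_p(K)` are centralised by `R`.
-/

set_option autoImplicit false

namespace CfsgLib.FGS74.EquivZJ

open Subgroup
open CfsgLib.LocalStructure

universe u

variable {X : Type u} [Group X] [Finite X] {p : ℕ} [Fact p.Prime]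

/-- `F*` of a subgroup, in the ambient group. -/
def fstarOf (H : Subgroup X) : Subgroup X :=
  (Cfsg.generalizedFittingSubgroup ↥H).map H.subtype

theorem fstarOf_le_of_normal {K D : Subgroup X} (hKD : K ≤ D) (hn : D ≤ normalizer (K : Set X)) :
    fstarOf K ≤ fstarOf D := by
  haveI : (K.subgroupOf D).Normal := (normal_subgroupOf_iff_le_normalizer hKD).2 hn
  have h1 := Balance.map_generalizedFittingSubgroup_equiv (subgroupOfEquivOfLe hKD)
  intro x hx
  obtain ⟨y, hy, rfl⟩ := hx
  rw [← h1] at hy
  obtain ⟨z, hz, rfl⟩ := hy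
  have hz' : ((z : ↥(K.subgroupOf D)) : ↥D) ∈ Cfsg.generalizedFittingSubgroup ↥D :=
    (mem_inf.1 ((Signalizer.generalizedFitting_inf_normal (K.subgroupOf D)).ge
      (mem_map_of_mem _ hz))).1
  exact ⟨_, hz', rfl⟩

/-- An element of order prime to `p` centralising `O_p(K)` is centralised by `R`. -/
theorem mem_centralizer_of_local {R C D K : Subgroup X} (hKR : ⁅K, R⁆ = K)
    (hKD : K ≤ D) (hKn : D ≤ normalizer (K : Set X)) (hDC : D ≤ C) (hDn : C ≤ normalizer (D : Set X))
    (hloc : R ≤ centralizer ((pResOf p (fstarOf C) : Subgroup X) : Set X))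
    {y : X} (hy : y ∈ K) (hyp : (orderOf y).Coprime p)
    (hyQ : y ∈ centralizer ((Cfsg.pCoreOf p K : Subgroup X) : Set X)) :
    y ∈ centralizer (R : Set X) := by
  set F := fstarOf K with hF
  set A := pResOf p F with hA
  have hle : F ≤ fstarOf C := (fstarOf_le_of_normal hKD hKn).trans (fstarOf_le_of_normal hDC hDn)
  have hAR : A ≤ centralizer (R : Set X) :=
    (pResOf_mono hle).trans (le_centralizer_iff.1 hloc)
  have hFK : F ≤ K := map_subtype_le _
  have hKF : K ≤ normalizer (F : Set X) := by
    haveI := Signalizer.generalizedFitting_normal (G := ↥K)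
    refine (normal_subgroupOf_iff_le_normalizer hFK).1 ?_
    rw [hF, fstarOf, subgroupOf, comap_map_eq_self_of_injective K.subtype_injective]
    infer_instance
  -- `K` centralises `A`
  have hKA : K ≤ centralizer (A : Set X) := by
    have h1 : ⁅⁅R, A⁆, K⁆ = ⊥ := by
      rw [show ⁅R, A⁆ = ⊥ by rw [commutator_comm, commutator_eq_bot_iff_le_centralizer]; exact hAR,
        commutator_bot_left]
    have h2 : ⁅⁅A, K⁆, R⁆ = ⊥ := by
      rw [commutator_eq_bot_iff_le_centralizer]
      exact ((le_normalizer_iff_commutator_le_left).1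
        (hKF.trans (normalizer_le_normalizer_pResOf F))).trans hAR
    have h3 := commutator_commutator_eq_bot_of_rotate h1 h2
    rwa [hKR, commutator_eq_bot_iff_le_centralizer] at h3
  -- the Sylow subgroup of `F*(K)` lies in `O_p(K)`
  obtain ⟨T⟩ : Nonempty (Sylow p ↥F) := inferInstance
  have hcen : Cfsg.pResidual p ↥F ≤ centralizer ((T : Subgroup ↥F) : Set ↥F) := by
    intro x hx
    refine mem_centralizer_iff.2 fun t _ => Subtype.ext ?_
    have hxA : (x : X) ∈ A := by rw [hA, ← map_pResidual]; exact mem_map_of_mem _ hx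
    exact (mem_centralizer_iff.1 (hKA (hFK t.2)) x hxA).symm
  haveI hTn : (T : Subgroup ↥F).Normal := normalizer_eq_top_iff.1 (top_unique
    ((sylow_sup_pResidual T).ge.trans
      (sup_le le_normalizer (hcen.trans (centralizer_le_normalizer _)))))
  have hTK : (T : Subgroup ↥F).map F.subtype ≤ Cfsg.pCoreOf p K := by
    refine le_pCoreOf ((map_subtype_le _).trans hFK) ?_ (T.2.map _)
    haveI := Sylow.characteristic_of_normal T hTn
    exact hKF.trans (Components.normalizer_le_normalizer_map_subtype _ _)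
  -- `y` centralises `F*(K)`
  have hyF : (⟨y, hy⟩ : ↥K) ∈ centralizer (Cfsg.generalizedFittingSubgroup ↥K : Set ↥K) := by
    refine mem_centralizer_iff.2 fun z hz => Subtype.ext ?_
    have hzF : (z : X) ∈ F := mem_map_of_mem _ hz
    have hztop : (⟨(z : X), hzF⟩ : ↥F) ∈ (T : Subgroup ↥F) ⊔ Cfsg.pResidual p ↥F := by
      rw [sylow_sup_pResidual]; exact mem_top _
    obtain ⟨t, ht, c, hc, htc⟩ := mem_sup_of_normal_left.1 hztop
    have h1 : Commute (t : X) y := mem_centralizer_iff.1 hyQ _ (hTK (mem_map_of_mem _ ht))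
    have h2 : Commute (c : X) y := mem_centralizer_iff.1 (hKA hy) _
      (by rw [hA, ← map_pResidual]; exact mem_map_of_mem _ hc)
    have : (z : X) = t * c := (congrArg Subtype.val htc).symm
    show (z : X) * y = y * z
    rw [this]
    exact (h1.mul_left h2).eq
  have hyF' : y ∈ F := ⟨⟨y, hy⟩, Components.centralizer_generalizedFitting_le_self hyF, rfl⟩
  exact hAR (mem_pResOf hyF' hyp)

end CfsgLib.FGS74.EquivZJ
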