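import Cfsg.Agent.FGS74.EquivZJ.Main
import Cfsg.Agent.FGS74.EquivZJ.Local
import Cfsg.Agent.Flavell73.Reduction
import Cfsg.Agent.ConjFunctor.KInfFunctor
import Cfsg.Agent.Components.Layer
import Cfsg.Agent.Solvable.Fitting

/-!
# Coprime action centralising the local residuals of the generalized Fitting subgroups
-/

set_option autoImplicit false
set_option linter.style.haveILetI false

namespace CfsgLib.FGS74.EquivZJ

open Subgroup Pointwise
open CfsgLib.LocalStructure
open scoped commutatorElement

universe u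

variable {p : ℕ} [Fact p.Prime]

/-- The K-infinity functor satisfies the equivariant ZJ theorem for `p > 3`. -/
theorem goodFunctor_kInfLower (hp3 : 3 < p) :
    GoodFunctor.{u} p fun Q [Group Q] => Cfsg.kInfLower Q where
  char := CfsgLib.ConjFunctor.isCharPFunctor_kInfLower
  self_centralizing Q _ _ hQ := by
    haveI := hQ.isNilpotent
    exact CfsgLib.ConjFunctor.centralizer_kInf_le.1
  zj X _ _ Y R h hr hF := by
    obtain ⟨r, hrp, hRr, hYr⟩ := hr
    haveI := Fact.mk hrp
    refine CfsgLib.Flavell73.le_normalizer_kInf_iInf h.norm hRr hYr hp3 hF ?_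
    refine le_antisymm (le_iInf fun S => ?_) (le_iInf fun S => ?_)
    · exact iInf_le (fun S : InvSylow p Y R => ((S : Sylow p ↥Y) : Subgroup ↥Y).map Y.subtype)
        ⟨S.1, fun a ha => Coprime.mem_normalizer_iff_conj_smul_eq.2 (S.2 a ha)⟩
    · exact iInf_le
        (fun S : {S : Sylow p ↥Y // ∀ a ∈ R, ((S : Subgroup ↥Y).map Y.subtype).map
          (MulAut.conj a).toMonoidHom = (S : Subgroup ↥Y).map Y.subtype} =>
          ((S : Sylow p ↥Y) : Subgroup ↥Y).map Y.subtype)
        ⟨S.1, fun a ha => Coprime.conj_smul_eq_self (S.2 ha)⟩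

variable {X : Type u} [Group X] [Finite X]
variable {W : ∀ (Q : Type u) [Group Q], Subgroup Q}

/-- A coprime noncyclic abelian `R` centralising every `O^p(F*(C_G(a)))` centralises
`O^p(F*(G))`. -/
theorem le_centralizer_pResOf_fstarOf (hW : GoodFunctor p W) {G R : Subgroup X} (h : Acts G R)
    (hr : ∃ r : ℕ, r.Prime ∧ IsPGroup r ↥R ∧ (Nat.card ↥G).Coprime r)
    [IsMulCommutative ↥R] (hnc : ¬ IsCyclic ↥R)
    (hloc : ∀ a ∈ R, a ≠ 1 →
      R ≤ centralizer ((pResOf p (fstarOf (G ⊓ centralizer ({a} : Set X))) : Subgroup X) : Set X)) :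
    pResOf p (fstarOf G) ≤ centralizer (R : Set X) := by
  -- the layer
  set E := (Cfsg.layer ↥G).map G.subtype with hE
  have hEG : E ≤ G := map_subtype_le _
  have hGE : normalizer (G : Set X) ≤ normalizer (E : Set X) :=
    Components.normalizer_le_normalizer_map_subtype _ _
  have hEact : Acts E R := h.mono hEG (h.norm.trans hGE)
  have hlayer : E ≤ centralizer (R : Set X) := by
    refine le_centralizer_of_local_perfect hW hEact
      (by
        obtain ⟨r, hrp, hRr, hGr⟩ := hr
        exact ⟨r, hrp, hRr, hGr.coprime_dvd_left (card_dvd_of_le hEG)⟩) hnc ?_ ?_ ?_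
    · rw [hE, ← map_commutator, Components.layer_commutator_self]
    · intro U hU hUp hUn
      rw [← commutator_eq_bot_iff_le_centralizer]
      have hUG : U ≤ G := hU.trans hEG
      haveI : Group.IsNilpotent ↥(U.subgroupOf G) :=
        (IsPGroup.comap_subtype hUp : IsPGroup p ↥(U.subgroupOf G)).isNilpotent
      have := congrArg (Subgroup.map G.subtype)
        (Components.commutator_layer_eq_bot_of_isSolvable (H := U.subgroupOf G) inferInstance
          (le_normalizer_comap G.subtype hUn))
      rwa [map_commutator, map_subgroupOf_eq_of_le hUG, Subgroup.map_bot] at this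
    · intro a ha ha1 y hy hyp hyQ
      set C := G ⊓ centralizer ({a} : Set X) with hC
      set D := E ⊓ centralizer ({a} : Set X) with hD
      have hab : ∀ r ∈ R, Commute a r := fun r hr' =>
        congrArg Subtype.val (IsMulCommutative.is_comm.comm (⟨a, ha⟩ : ↥R) ⟨r, hr'⟩)
      have hRD : R ≤ normalizer (D : Set X) := by
        refine le_normalizer_inf hEact.norm ?_
        rw [← centralizer_zpowers]
        refine le_normalizer_centralizer_of fun r hr' => centralizer_le_normalizer _ ?_
        rw [centralizer_zpowers, mem_centralizer_iff]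
        intro b hb
        rw [Set.mem_singleton_iff.1 hb]
        exact (hab r hr').eq
      exact mem_centralizer_of_local (C := C) (D := D)
        (Coprime.commutator_commutator_eq hRD (hEact.mono inf_le_left hRD).cop)
        (Coprime.commutator_le_of_le_normalizer hRD) (normalizer_commutator_ge_left D R)
        (inf_le_inf_right _ hEG)
        (le_normalizer_inf ((inf_le_left.trans le_normalizer).trans hGE)
          (inf_le_right.trans le_normalizer))
        (hloc a ha ha1) hy hyp hyQ
  -- the `q`-cores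
  have hcore : ∀ q : ℕ, q.Prime → q ≠ p → Cfsg.pCoreOf q G ≤ centralizer (R : Set X) := by
    intro q hq hqp
    haveI := Fact.mk hq
    have hUG : Cfsg.pCoreOf q G ≤ G := pCoreOf_le G
    refine Coprime.le_of_forall_inf_centralizer_le hnc
      (h.norm.trans (normalizer_le_normalizer_pCoreOf G))
      (h.cop.coprime_dvd_right (card_dvd_of_le hUG)) fun a ha ha1 x hx => ?_
    set C := G ⊓ centralizer ({a} : Set X) with hC
    set U := Cfsg.pCoreOf q G ⊓ centralizer ({a} : Set X) with hU
    have hUC : U ≤ C := inf_le_inf_right _ hUG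
    haveI : (U.subgroupOf C).Normal := (normal_subgroupOf_iff_le_normalizer hUC).2
      (le_normalizer_inf ((inf_le_left.trans le_normalizer).trans
        (normalizer_le_normalizer_pCoreOf G)) (inf_le_right.trans le_normalizer))
    have hUq : IsPGroup q ↥U := (pCoreOf_isPGroup G).to_le inf_le_left
    have hxF : x ∈ fstarOf C := by
      refine ⟨⟨x, hUC hx⟩, ?_, rfl⟩
      exact (((CfsgLib.Solvable.le_pCore (N := U.subgroupOf C) (IsPGroup.comap_subtype hUq)).trans
        (CfsgLib.Solvable.pCore_le_fittingSubgroup q)).trans le_sup_right) (mem_subgroupOf.2 hx)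
    have hxp : (orderOf x).Coprime p := by
      obtain ⟨k, hk⟩ := IsPGroup.iff_orderOf.1 hUq ⟨x, hx⟩
      rw [← orderOf_coe] at hk
      rw [show orderOf x = q ^ k from hk]
      exact ((Nat.coprime_primes hq (Fact.out : p.Prime)).2 hqp).pow_left k
    exact le_centralizer_iff.1 (hloc a ha ha1) (mem_pResOf hxF hxp)
  -- inside `G`
  set ι := G.subtype with hι
  let B : Subgroup ↥G := Cfsg.layer ↥G ⊔ ⨆ q : {q : Nat.Primes // (q : ℕ) ≠ p}, Cfsg.pCore (q : ℕ) ↥G
  have hBR : B.map ι ≤ centralizer (R : Set X) := by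
    rw [Subgroup.map_sup, Subgroup.map_iSup]
    exact sup_le hlayer (iSup_le fun q => hcore _ q.1.2 q.2)
  haveI : ∀ q : {q : Nat.Primes // (q : ℕ) ≠ p}, (Cfsg.pCore (q : ℕ) ↥G).Normal := fun q =>
    CfsgLib.Solvable.pCore_normal _
  haveI : (⨆ q : {q : Nat.Primes // (q : ℕ) ≠ p}, Cfsg.pCore (q : ℕ) ↥G).Normal :=
    Subgroup.iSup_normal _
  haveI : (Cfsg.pCore p ↥G).Normal := CfsgLib.Solvable.pCore_normal _
  have hF : Cfsg.generalizedFittingSubgroup ↥G ≤ Cfsg.pCore p ↥G ⊔ B := by
    refine sup_le (le_sup_left.trans le_sup_right) ?_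
    rw [CfsgLib.Solvable.fittingSubgroup_eq_iSup]
    refine iSup_le fun q => ?_
    by_cases hqp : (q : ℕ) = p
    · rw [hqp]; exact le_sup_left
    · exact (le_iSup (fun q : {q : Nat.Primes // (q : ℕ) ≠ p} => Cfsg.pCore (q : ℕ) ↥G)
        ⟨q, hqp⟩).trans (le_sup_right.trans le_sup_right)
  haveI hBn : B.Normal := Subgroup.sup_normal _ _
  refine le_trans ?_ hBR
  rw [fstarOf, ← map_pResOf]
  refine map_mono (pResOf_le_of_forall fun x hx hxp => ?_)
  obtain ⟨o, ho, b, hb, rfl⟩ := mem_sup_of_normal_right.1 (hF hx)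
  obtain ⟨k, hk⟩ := (CfsgLib.Solvable.isPGroup_pCore (G := ↥G) p) ⟨o, ho⟩
  have hk' : o ^ p ^ k = 1 := congrArg Subtype.val hk
  refine mem_of_coprime_of_pow_mem (k := k) hxp ?_
  rw [← QuotientGroup.eq_one_iff, QuotientGroup.mk_pow, QuotientGroup.mk_mul,
    (QuotientGroup.eq_one_iff b).2 hb, mul_one, ← QuotientGroup.mk_pow, hk', QuotientGroup.mk_one]

end CfsgLib.FGS74.EquivZJ
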