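import Cfsg.Agent.FGS74.EquivZJ.Step
import Cfsg.Agent.Coprime.Generation

/-!
# A perfect group whose local residuals are centralised
-/

set_option autoImplicit false
set_option linter.style.haveILetI false

namespace CfsgLib.FGS74.EquivZJ

open Subgroup Pointwise
open CfsgLib.LocalStructure
open scoped commutatorElement

universe u

variable {X : Type u} [Group X] [Finite X] {p : ℕ} [Fact p.Prime]
variable {W : ∀ (Q : Type u) [Group Q], Subgroup Q}

/-- If `Q` is central in `K = [K, R]` and the elements of order prime to `p` are centralised by `R`,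
then `K = Q`. -/
theorem le_pCoreOf_of_central {K R : Subgroup X} (hKR : ⁅K, R⁆ = K)
    (hRK : R ≤ normalizer (K : Set X))
    (hA : pResOf p K ≤ centralizer (R : Set X)) : K ≤ Cfsg.pCoreOf p K := by
  set A := pResOf p K with hAdef
  have hKA : K ≤ centralizer (A : Set X) := by
    have h1 : ⁅⁅R, A⁆, K⁆ = ⊥ := by
      rw [show ⁅R, A⁆ = ⊥ by rw [commutator_comm, commutator_eq_bot_iff_le_centralizer]; exact hA,
        commutator_bot_left]
    have h2 : ⁅⁅A, K⁆, R⁆ = ⊥ := by
      rw [commutator_eq_bot_iff_le_centralizer]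
      exact ((le_normalizer_iff_commutator_le_left).1
        (le_normalizer.trans (normalizer_le_normalizer_pResOf K))).trans hA
    have h3 := commutator_commutator_eq_bot_of_rotate h1 h2
    rwa [hKR, commutator_eq_bot_iff_le_centralizer] at h3
  obtain ⟨T⟩ : Nonempty (Sylow p ↥K) := inferInstance
  have hcen : Cfsg.pResidual p ↥K ≤ centralizer ((T : Subgroup ↥K) : Set ↥K) := by
    intro x hx
    refine mem_centralizer_iff.2 fun t _ => Subtype.ext ?_
    have hxA : (x : X) ∈ A := by rw [hAdef, ← map_pResidual]; exact mem_map_of_mem _ hx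
    exact (mem_centralizer_iff.1 (hKA t.2) x hxA).symm
  haveI hTn : (T : Subgroup ↥K).Normal := normalizer_eq_top_iff.1 (top_unique
    ((sylow_sup_pResidual T).ge.trans
      (sup_le le_normalizer (hcen.trans (centralizer_le_normalizer _)))))
  have hTQ : (T : Subgroup ↥K).map K.subtype ≤ Cfsg.pCoreOf p K := by
    refine le_pCoreOf (map_subtype_le _) ?_ (T.2.map _)
    exact (normal_subgroupOf_iff_le_normalizer (map_subtype_le _)).1 (by
      rw [subgroupOf, comap_map_eq_self_of_injective K.subtype_injective]; exact hTn)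
  refine hKR.ge.trans (commutator_le.2 fun k hk r hr => ?_)
  have htop : (⟨k, hk⟩ : ↥K) ∈ (T : Subgroup ↥K) ⊔ Cfsg.pResidual p ↥K := by
    rw [sylow_sup_pResidual]; exact mem_top _
  obtain ⟨t, ht, c, hc, htc⟩ := mem_sup_of_normal_left.1 htop
  have hk' : k = (t : X) * c := (congrArg Subtype.val htc).symm
  have hcr : r * (c : X) = c * r :=
    mem_centralizer_iff.1 (hA (by rw [hAdef, ← map_pResidual]; exact mem_map_of_mem _ hc)) r hr
  have htQ := hTQ (mem_map_of_mem K.subtype ht)
  have : ⁅k, r⁆ = (t : X) * (r * (t : X)⁻¹ * r⁻¹) := by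
    rw [hk', commutatorElement_def]
    calc (t : X) * c * r * ((t : X) * c)⁻¹ * r⁻¹
        = (t : X) * (c * r) * (c : X)⁻¹ * (t : X)⁻¹ * r⁻¹ := by group
      _ = (t : X) * (r * c) * (c : X)⁻¹ * (t : X)⁻¹ * r⁻¹ := by rw [hcr]
      _ = _ := by group
  rw [this]
  exact mul_mem htQ ((mem_normalizer_iff.1
    ((hRK.trans (normalizer_le_normalizer_pCoreOf K)) hr) _).1 (inv_mem htQ))

theorem le_centralizer_of_local_perfect (hW : GoodFunctor p W) {E R : Subgroup X} (h : Acts E R)
    (hr : ∃ r : ℕ, r.Prime ∧ IsPGroup r ↥R ∧ (Nat.card ↥E).Coprime r)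
    [IsMulCommutative ↥R] (hnc : ¬ IsCyclic ↥R) (hperf : E ≤ ⁅E, E⁆)
    (hcen : ∀ U : Subgroup X, U ≤ E → IsPGroup p ↥U → E ≤ normalizer (U : Set X) →
      E ≤ centralizer (U : Set X))
    (hloc : ∀ a ∈ R, a ≠ 1 → ∀ y ∈ ⁅E ⊓ centralizer ({a} : Set X), R⁆, (orderOf y).Coprime p →
      y ∈ centralizer ((Cfsg.pCoreOf p ⁅E ⊓ centralizer ({a} : Set X), R⁆ : Subgroup X) : Set X) →
      y ∈ centralizer (R : Set X)) :
    E ≤ centralizer (R : Set X) := by
  have hab : ∀ a ∈ R, ∀ r ∈ R, Commute a r := fun a ha r hr' =>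
    congrArg Subtype.val (IsMulCommutative.is_comm.comm (⟨a, ha⟩ : ↥R) ⟨r, hr'⟩)
  have hRC : ∀ a ∈ R, R ≤ normalizer ((E ⊓ centralizer ({a} : Set X) : Subgroup X) : Set X) := by
    intro a ha
    refine le_normalizer_inf h.norm ?_
    rw [← centralizer_zpowers]
    refine le_normalizer_centralizer_of fun r hr' => centralizer_le_normalizer _ ?_
    rw [centralizer_zpowers, mem_centralizer_iff]
    intro b hb
    rw [Set.mem_singleton_iff.1 hb]
    exact (hab a ha r hr').eq
  have hsplit : ∀ a ∈ R, ∀ T : Subgroup X,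
      ⁅E ⊓ centralizer ({a} : Set X), R⁆ ≤ T → E ⊓ centralizer (R : Set X) ≤ T →
      E ⊓ centralizer ({a} : Set X) ≤ T := by
    intro a ha T h1 h2
    have hA := h.mono (inf_le_left : E ⊓ centralizer ({a} : Set X) ≤ E) (hRC a ha)
    rw [← Coprime.commutator_sup_centralizer hA.norm hA.cop (Or.inl hA.solv)]
    exact sup_le h1 ((inf_le_inf_right _ inf_le_left).trans h2)
  set P := phat p E R with hP
  set V := Cfsg.inducedFunctor W P with hV
  have hPp : IsPGroup p ↥P := h.isPGroup_phat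
  have hCP : E ⊓ centralizer (R : Set X) ≤ normalizer (P : Set X) := fun g hg =>
    Acts.mem_normalizer_phat (le_normalizer (mem_inf.1 hg).1) (mem_inf.1 hg).2
  -- `E` normalises `W(P)`
  have hEV : E ≤ normalizer (V : Set X) :=
    Coprime.le_of_forall_inf_centralizer_le hnc h.norm h.cop fun a ha ha1 =>
      hsplit a ha _ (le_normalizer_induced_phat hW h hr ha (hab a ha) (hloc a ha ha1))
        (hCP.trans (hW.normalizer_le hPp))
  have hVP : V ≤ P := GoodFunctor.induced_le W P
  have hEV' := hcen V (hVP.trans h.phat_le) (hPp.to_le hVP) hEV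
  have hPV : P ≤ V := fun x hx =>
    hW.induced_self_centralizing hPp (mem_inf.2 ⟨hx, hEV' (h.phat_le hx)⟩)
  have hEP : E ≤ centralizer (P : Set X) := hEV'.trans (centralizer_le hPV)
  -- `C_E(a) ≤ P C_E(R)`
  have hgen : E ≤ P ⊔ (E ⊓ centralizer (R : Set X)) := by
    refine Coprime.le_of_forall_inf_centralizer_le hnc h.norm h.cop fun a ha ha1 => ?_
    refine hsplit a ha _ ?_ le_sup_right
    set K := ⁅E ⊓ centralizer ({a} : Set X), R⁆ with hK
    have hKE : K ≤ E := (Coprime.commutator_le_of_le_normalizer (hRC a ha)).trans inf_le_left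
    have hRK : R ≤ normalizer (K : Set X) := normalizer_commutator_ge_right _ R
    have hKR : ⁅K, R⁆ = K :=
      Coprime.commutator_commutator_eq (hRC a ha) (h.mono inf_le_left (hRC a ha)).cop
    have hQP : Cfsg.pCoreOf p K ≤ P := by
      refine h.le_phat ((pCoreOf_le K).trans hKE) (pCoreOf_isPGroup K)
        (hRK.trans (normalizer_le_normalizer_pCoreOf K)) ?_
      refine le_trans ?_ (normalizer_le_normalizer_pCoreOf K)
      refine le_trans (inf_le_inf_left _ (centralizer_le ?_)) (normalizer_commutator_ge_left _ R)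
      exact Set.singleton_subset_iff.2 ha
    have hA : pResOf p K ≤ centralizer (R : Set X) := pResOf_le_of_forall fun y hy hyp =>
      hloc a ha ha1 y hy hyp (centralizer_le hQP (hEP (hKE hy)))
    exact ((le_pCoreOf_of_central hKR hRK hA).trans hQP).trans le_sup_left
  refine hperf.trans (commutator_le.2 fun x hx y hy => ?_)
  set C := E ⊓ centralizer (R : Set X) with hC
  haveI : (P.subgroupOf E).Normal :=
    (normal_subgroupOf_iff_le_normalizer h.phat_le).2 (hEP.trans (centralizer_le_normalizer _))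
  have hdec : ∀ z ∈ E, ∃ u ∈ P, ∃ c ∈ C, z = u * c := by
    intro z hz
    have : (⟨z, hz⟩ : ↥E) ∈ P.subgroupOf E ⊔ C.subgroupOf E := by
      rw [← subgroupOf_sup h.phat_le inf_le_left]
      exact mem_subgroupOf.2 (hgen hz)
    obtain ⟨u, hu, c, hc, huc⟩ := mem_sup_of_normal_left.1 this
    exact ⟨u, mem_subgroupOf.1 hu, c, mem_subgroupOf.1 hc, (congrArg Subtype.val huc).symm⟩
  obtain ⟨u, hu, c, hc, rfl⟩ := hdec x hx
  obtain ⟨v, hv, d, hd, rfl⟩ := hdec y hy
  have hcen' : ∀ w ∈ P, ∀ z ∈ E, Commute w z := fun w hw z hz =>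
    mem_centralizer_iff.1 (hEP hz) w hw
  have hcE := (mem_inf.1 hc).1
  have hdE := (mem_inf.1 hd).1
  have : ⁅u * c, v * d⁆ = ⁅c, d⁆ := by
    have a1 : Commute u (c * (v * d) * c⁻¹) :=
      hcen' u hu _ (mul_mem (mul_mem hcE hy) (inv_mem hcE))
    have a2 : Commute v c⁻¹ := hcen' v hv _ (inv_mem hcE)
    rw [commutatorElement_def, commutatorElement_def]
    calc u * c * (v * d) * (u * c)⁻¹ * (v * d)⁻¹
        = u * (c * (v * d) * c⁻¹) * u⁻¹ * (v * d)⁻¹ := by group
      _ = c * (v * d) * c⁻¹ * (v * d)⁻¹ := by rw [a1.eq, mul_inv_cancel_right]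
      _ = v * (c * d * c⁻¹) * d⁻¹ * v⁻¹ := by
          rw [show c * (v * d) * c⁻¹ = v * (c * d * c⁻¹) by
            calc c * (v * d) * c⁻¹ = c * v * d * c⁻¹ := by group
              _ = v * c * d * c⁻¹ := by rw [(hcen' v hv c hcE).eq]
              _ = v * (c * d * c⁻¹) := by group]
          group
      _ = c * d * c⁻¹ * d⁻¹ := by
          have : Commute v (c * d * c⁻¹ * d⁻¹) :=
            hcen' v hv _ (mul_mem (mul_mem (mul_mem hcE hdE) (inv_mem hcE)) (inv_mem hdE))
          rw [mul_assoc v, this.eq, mul_inv_cancel_right]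
  rw [this, commutatorElement_def]
  exact mul_mem (mul_mem (mul_mem (mem_inf.1 hc).2 (mem_inf.1 hd).2) (inv_mem (mem_inf.1 hc).2))
    (inv_mem (mem_inf.1 hd).2)

end CfsgLib.FGS74.EquivZJ
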