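import Cfsg.Agent.FGS74.EquivZJ.Basic

/-!
# Passage of the intersection of invariant Sylow subgroups to a quotient
-/

set_option autoImplicit false

namespace CfsgLib.FGS74.EquivZJ

open Subgroup Pointwise
open scoped commutatorElement

universe u

variable {X : Type u} [Group X] {X' : Type u} [Group X']

theorem le_normalizer_map (f : X →* X') {A U : Subgroup X} (h : A ≤ normalizer (U : Set X)) :
    A.map f ≤ normalizer ((U.map f : Subgroup X') : Set X') :=
  (map_mono h).trans (Subgroup.le_normalizer_map f)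

theorem le_normalizer_comap (f : X →* X') {A : Subgroup X} {U : Subgroup X'}
    (h : A.map f ≤ normalizer (U : Set X')) : A ≤ normalizer ((U.comap f : Subgroup X) : Set X) := by
  intro g hg
  rw [mem_normalizer_iff]
  intro x
  simp only [mem_comap, map_mul, map_inv]
  exact mem_normalizer_iff.1 (h (mem_map_of_mem f hg)) (f x)

variable [Finite X] [Finite X'] {p : ℕ} [Fact p.Prime] {Y R : Subgroup X}

omit [Finite X'] in
theorem Acts.map (h : Acts Y R) (f : X →* X') : Acts (Y.map f) (R.map f) :=
  ⟨le_normalizer_map f h.norm,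
    (h.cop.coprime_dvd_left (Subgroup.card_map_dvd R f)).coprime_dvd_right
      (Subgroup.card_map_dvd Y f), by
      haveI := h.solv
      exact Group.isSolvable_of_surjective (f := f.subgroupMap R) (f.subgroupMap_surjective R)⟩

omit [Finite X'] in
theorem Acts.map_centralizer (h : Acts Y R) (f : X →* X') :
    (Y ⊓ centralizer (R : Set X)).map f = Y.map f ⊓ centralizer ((R.map f : Subgroup X') : Set X') :=
  Coprime.map_inf_centralizer f h.norm (h.cop.coprime_dvd_right (card_dvd_of_le inf_le_left))
    (Or.inl h.solv)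

omit [Finite X'] in
theorem Acts.map_centralizer_singleton (h : Acts Y R) (f : X →* X') {a : X} (ha : a ∈ R) :
    (Y ⊓ centralizer ({a} : Set X)).map f = Y.map f ⊓ centralizer ({f a} : Set X') := by
  have := (h.zpowers ha).map_centralizer f
  rwa [centralizer_zpowers, MonoidHom.map_zpowers, centralizer_zpowers] at this

theorem map_eq_of_le_of_comap (f : X →* X') {Y : Subgroup X} {U : Subgroup X'}
    (hU : U ≤ Y.map f) (hker : f.ker ≤ Y) : U.comap f ≤ Y ∧ (U.comap f).map f = U := by
  refine ⟨?_, ?_⟩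
  · calc U.comap f ≤ (Y.map f).comap f := comap_mono hU
      _ = Y := by rw [comap_map_eq, sup_eq_left.2 hker]
  · rw [map_comap_eq, inf_eq_right.2 (hU.trans (map_le_range _ _))]

/-- Quotient by a `p`-subgroup. -/
theorem Acts.phat_map_le_of_isPGroup (h : Acts Y R) (f : X →* X') (hker : f.ker ≤ Y)
    (hp : IsPGroup p ↥f.ker) : phat p (Y.map f) (R.map f) ≤ (phat p Y R).map f := by
  have hPU := (h.map f).phat_le (p := p)
  obtain ⟨hQY, hQmap⟩ := map_eq_of_le_of_comap f hPU hker
  rw [← hQmap]
  refine map_mono (h.le_phat hQY ((h.map f).isPGroup_phat.comap_of_ker_isPGroup f hp)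
    (le_normalizer_comap f Acts.R_le_normalizer_phat) (le_normalizer_comap f ?_))
  rw [h.map_centralizer f]
  exact fun g hg => Acts.mem_normalizer_phat (le_normalizer (mem_inf.1 hg).1) (mem_inf.1 hg).2

/-- Quotient by a `p'`-subgroup whose `R`-fixed points are centralised by `Y`. -/
theorem Acts.phat_map_le_of_coprime (h : Acts Y R) (f : X →* X') (hker : f.ker ≤ Y)
    (hp : (Nat.card ↥f.ker).Coprime p)
    (hcen : Y ≤ centralizer ((f.ker ⊓ centralizer (R : Set X) : Subgroup X) : Set X)) :
    phat p (Y.map f) (R.map f) ≤ (phat p Y R).map f := by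
  set P' := phat p (Y.map f) (R.map f) with hP'
  have hPU := (h.map f).phat_le (p := p)
  obtain ⟨hQY, hQmap⟩ := map_eq_of_le_of_comap f (U := P') hPU hker
  set Q := P'.comap f with hQ
  have hQR : R ≤ normalizer (Q : Set X) := le_normalizer_comap f Acts.R_le_normalizer_phat
  have hQact : Acts Q R := h.mono hQY hQR
  obtain ⟨T, hT⟩ := Coprime.exists_invariant_sylow hQact.norm hQact.cop (Or.inl hQact.solv) p
  set T' := (T : Subgroup ↥Q).map Q.subtype with hT'
  have hTQ : T' ≤ Q := map_subtype_le _
  -- `T` maps onto `P'`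
  have hTmap : T'.map f = P' := by
    refine Subgroup.eq_of_le_of_card_ge ((map_mono hTQ).trans hQmap.le) ?_
    obtain ⟨m, hm⟩ := IsPGroup.iff_card.1 ((h.map f).isPGroup_phat (p := p))
    have hdisj : T' ⊓ f.ker = ⊥ := by
      refine inf_eq_bot_of_coprime ?_
      obtain ⟨k, hk⟩ := IsPGroup.iff_card.1 T.2
      rw [hT', card_map_of_injective Q.subtype_injective, hk]
      exact (hp.symm).pow_left k
    have hc1 : Nat.card ↥(T'.map f) = Nat.card ↥T' := by
      refine (Nat.card_congr (Equiv.ofBijective (f.subgroupMap T') ⟨?_,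
        f.subgroupMap_surjective T'⟩)).symm
      intro x y hxy
      have hk : (x : X)⁻¹ * y ∈ T' ⊓ f.ker := mem_inf.2 ⟨mul_mem (inv_mem x.2) y.2, by
        rw [MonoidHom.mem_ker, map_mul, map_inv]
        have := congrArg Subtype.val hxy
        simp only [MonoidHom.subgroupMap_apply_coe] at this
        rw [this, inv_mul_cancel]⟩
      rw [hdisj, mem_bot, inv_mul_eq_one] at hk
      exact Subtype.ext hk
    have hdvd : p ^ m ∣ Nat.card ↥Q := by
      rw [← hm, ← hP', ← hQmap]
      exact Subgroup.card_map_dvd _ _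
    rw [hc1, hT', card_map_of_injective Q.subtype_injective, Sylow.card_eq_multiplicity, hP', hm]
    exact Nat.pow_le_pow_right (Fact.out : p.Prime).pos
      ((Nat.Prime.pow_dvd_iff_le_factorization Fact.out Nat.card_pos.ne').1 hdvd)
  -- `T` is normalised by `C_Y(R)`
  have hTC : Y ⊓ centralizer (R : Set X) ≤ normalizer (T' : Set X) := by
    intro c hc
    have hc' := mem_inf.1 hc
    have hcQ : c ∈ normalizer (Q : Set X) := by
      refine le_normalizer_comap f ?_ hc
      rw [h.map_centralizer f]
      exact fun g hg => Acts.mem_normalizer_phat (le_normalizer (mem_inf.1 hg).1) (mem_inf.1 hg).2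
    obtain ⟨T₂, hT₂⟩ := Acts.exists_conj_invSylow (p := p) hcQ hc'.2 ⟨T, hT⟩
    obtain ⟨d, hd, hdT⟩ := hQact.exists_conj_invariant ⟨T, hT⟩ T₂
    have hd' := mem_inf.1 hd
    -- `d` normalises `T`
    have hfd : f d ∈ (T' ⊓ centralizer (R : Set X)).map f := by
      rw [(h.mono (hTQ.trans hQY) hT).map_centralizer f, hTmap]
      refine mem_inf.2 ⟨?_, ?_⟩
      · rw [← hQmap]; exact mem_map_of_mem f hd'.1
      · rw [mem_centralizer_iff]
        rintro _ ⟨r, hr, rfl⟩
        rw [← map_mul, ← map_mul, mem_centralizer_iff.1 hd'.2 r hr]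
    obtain ⟨t, ht, htd⟩ := hfd
    have ht' := mem_inf.1 ht
    have ho : t⁻¹ * d ∈ f.ker ⊓ centralizer (R : Set X) :=
      mem_inf.2 ⟨by rw [MonoidHom.mem_ker, map_mul, map_inv, htd, inv_mul_cancel],
        mul_mem (inv_mem ht'.2) hd'.2⟩
    have hdN : d ∈ normalizer (T' : Set X) := by
      rw [show d = t * (t⁻¹ * d) by group]
      refine mul_mem (le_normalizer ht'.1) (centralizer_le_normalizer (T' : Set X) ?_)
      exact mem_centralizer_iff.2 fun x hx =>
        (mem_centralizer_iff.1 (hcen (hQY (hTQ hx))) _ ho).symm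
    rw [Coprime.mem_normalizer_iff_conj_smul_eq] at hdN
    rw [hdN] at hdT
    refine mem_normalizer_fintype fun x hx => ?_
    have h2 : c * x * c⁻¹ ∈ T'.map (MulAut.conj c).toMonoidHom :=
      ⟨x, hx, by simp [MulAut.conj_apply]⟩
    rw [← hT₂, ← hdT] at h2
    exact h2
  rw [← hTmap]
  exact map_mono (h.le_phat (hTQ.trans hQY) (T.2.map Q.subtype) hT hTC)

end CfsgLib.FGS74.EquivZJ
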