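import Cfsg.Agent.FGS74.EquivZJ.Constrained
import Cfsg.Agent.FGS74.EquivZJ.Functor
import Cfsg.Agent.Coprime.SchurZassenhaus
import Cfsg.Agent.PLocal.Cores

/-!
# The functor value of the enlarged subgroup is normalised by `K`

In `Y = K X₁`, factoring out `O_{p'}(Y)` gives a group with `F* = O_p`, to which the equivariant ZJ
theorem applies.
-/

set_option autoImplicit false
set_option linter.style.haveILetI false

namespace CfsgLib.FGS74.EquivZJ

open Subgroup Pointwise
open CfsgLib.LocalStructure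
open scoped commutatorElement

universe u

variable {X : Type u} [Group X] [Finite X] {p : ℕ} [Fact p.Prime]
variable {W : ∀ (Q : Type u) [Group Q], Subgroup Q} {Y R K X₁ Q X₀ V : Subgroup X} {a : X}

/-- A lift of order prime to `p`. -/
theorem exists_coprime_lift {X' : Type u} [Group X'] [Finite X'] (f : X →* X') (H : Subgroup X) {y : X'}
    (hy : y ∈ H.map f) (hyp : (orderOf y).Coprime p) :
    ∃ x ∈ H, f x = y ∧ (orderOf x).Coprime p := by
  obtain ⟨x, hx, rfl⟩ := hy
  obtain ⟨e, m, hm, hxm⟩ := Nat.exists_eq_pow_mul_and_not_dvd (orderOf_pos x).ne' p (Fact.out : p.Prime).ne_one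
  obtain ⟨i, hi⟩ := exists_pow_eq_self_of_coprime (x := f x) (n := p ^ e) (hyp.symm.pow_left e)
  refine ⟨(x ^ p ^ e) ^ i, pow_mem (pow_mem hx _) _, by rw [map_pow, map_pow, hi], ?_⟩
  refine Nat.Coprime.of_dvd_left (orderOf_pow_dvd i) ?_
  rw [orderOf_pow, Nat.gcd_eq_right (hxm ▸ dvd_mul_right _ _), hxm,
    Nat.mul_div_cancel_left _ (pow_pos (Fact.out : p.Prime).pos e)]
  exact ((Fact.out : p.Prime).coprime_iff_not_dvd.2 hm).symm

/-- The order of the image times that of the kernel. -/
theorem card_map_mul_card_ker_inf {X' : Type u} [Group X'] (f : X →* X') (T : Subgroup X) :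
    Nat.card ↥(T ⊓ f.ker) * Nat.card ↥(T.map f) = Nat.card ↥T := by
  have h1 := card_mul_index (f.ker.subgroupOf T)
  rw [show (f.ker.subgroupOf T).index = f.ker.relIndex T from rfl, relIndex_ker] at h1
  rwa [← Nat.card_congr (subgroupOfEquivOfLe (inf_le_left : T ⊓ f.ker ≤ T)).toEquiv,
    inf_subgroupOf_left]

theorem inf_eq_bot_of_coprime_of_isPGroup {A B : Subgroup X} (hA : (Nat.card ↥A).Coprime p)
    (hB : IsPGroup p ↥B) : A ⊓ B = ⊥ := by
  obtain ⟨k, hk⟩ := IsPGroup.iff_card.1 hB
  refine Coprime.inf_eq_bot_of_coprime ?_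
  rw [hk]
  exact hA.pow_right k

set_option maxHeartbeats 800000 in
theorem le_normalizer_induced_of_setup [Y.Normal] (hW : GoodFunctor p W) (h : Acts Y R)
    (hr : ∃ r : ℕ, r.Prime ∧ IsPGroup r ↥R ∧ (Nat.card ↥Y).Coprime r)
    (ha : a ∈ R) (hab : ∀ r ∈ R, Commute a r)
    (hK : K ≤ Y ⊓ centralizer ({a} : Set X)) (hKR : ⁅K, R⁆ = K)
    (hKc : ∀ c ∈ Y, c ∈ centralizer ({a} : Set X) → ∀ r ∈ R, ⁅c, r⁆ ∈ K)
    (hX1 : X₁ ≤ Y) (hX1p : IsPGroup p ↥X₁) (hX1R : R ≤ normalizer (X₁ : Set X))
    (hX1C : Y ⊓ centralizer (R : Set X) ≤ normalizer (X₁ : Set X))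
    (hmax : phat p Y R ≤ X₁) (hgen : Y ≤ K ⊔ X₁)
    (hVX : V ≤ X₁) (hVY : Y ≤ normalizer (V : Set X))
    (hX0 : X₀ ≤ X₁) (hself : X₀ ⊓ centralizer (V : Set X) ≤ V)
    (hQ : Q ≤ X₀) (hKQ : K ≤ normalizer (Q : Set X))
    (hQmax : ∀ U : Subgroup X, U ≤ K → IsPGroup p ↥U → K ≤ normalizer (U : Set X) → U ≤ Q)
    (hloc : ∀ y ∈ K, (orderOf y).Coprime p → y ∈ centralizer (Q : Set X) →
      y ∈ centralizer (R : Set X)) :
    K ≤ normalizer ((Cfsg.inducedFunctor W X₁ : Subgroup X) : Set X) := by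
  set U := (Cfsg.pPrimeCore p ↥Y).map Y.subtype with hU
  haveI hUn : U.Normal := PLocal.normal_map_subtype Y _
  have hUY : U ≤ Y := map_subtype_le _
  have hUcop : (Nat.card ↥U).Coprime p := by
    rw [hU, card_map_of_injective Y.subtype_injective]
    exact PLocal.coprime_card_pPrimeCore p ↥Y
  have hKY : K ≤ Y := hK.trans inf_le_left
  have hUX : U ⊓ X₁ = ⊥ := inf_eq_bot_of_coprime_of_isPGroup hUcop hX1p
  have hQX : Q ≤ X₁ := hQ.trans hX0
  have hRK : R ≤ normalizer (K : Set X) := by
    rw [← hKR]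
    exact normalizer_commutator_ge_right K R
  -- `K ⊓ U` centralises `Q`
  have hKUQ : ∀ y ∈ K ⊓ U, y ∈ centralizer (Q : Set X) := by
    intro y hy
    refine mem_centralizer_iff.2 fun q hq => ?_
    have hm := commutator_mem_inf_of_normalizes (mem_inf.1 hy).2 hq (hKQ (mem_inf.1 hy).1)
      (le_normalizer_of_normal (H := U) (mem_top q))
    rw [inf_eq_bot_of_coprime_of_isPGroup hUcop (hX1p.to_le hQX), mem_bot,
      commutatorElement_eq_one_iff_mul_comm] at hm
    exact hm.symm
  -- `C_U(a)` is centralised by `R`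
  have hUa : U ⊓ centralizer ({a} : Set X) ≤ centralizer (R : Set X) := by
    set C := U ⊓ centralizer ({a} : Set X) with hC
    have hRC : R ≤ normalizer (C : Set X) := by
      refine le_normalizer_inf le_normalizer_of_normal ?_
      rw [← centralizer_zpowers]
      refine le_normalizer_centralizer_of fun r hr => centralizer_le_normalizer _ ?_
      rw [centralizer_zpowers, mem_centralizer_iff]
      intro b hb
      rw [Set.mem_singleton_iff.1 hb]
      exact (hab r hr).eq
    have hCY : C ≤ Y := inf_le_left.trans hUY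
    have hle : ⁅C, R⁆ ≤ centralizer (R : Set X) := by
      intro x hx
      have hxU : x ∈ U := (mem_inf.1 (Coprime.commutator_le_of_le_normalizer hRC hx)).1
      have hxK : x ∈ K := (commutator_le.2 fun c hc r hr =>
        hKc c (hCY hc) (mem_inf.1 hc).2 r hr) hx
      exact hloc x hxK (Nat.Coprime.of_dvd_left (Subgroup.orderOf_dvd_natCard _ hxU) hUcop)
        (hKUQ x (mem_inf.2 ⟨hxK, hxU⟩))
    rw [← commutator_eq_bot_iff_le_centralizer,
      ← Coprime.commutator_commutator_eq hRC (h.mono hCY hRC).cop, commutator_eq_bot_iff_le_centralizer]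
    exact hle
  -- `Y` centralises `C_U(R)`
  have hKU : K ≤ centralizer ((U ⊓ centralizer (R : Set X) : Subgroup X) : Set X) := by
    set T := U ⊓ centralizer (R : Set X) with hT
    have h1 : ⁅⁅R, T⁆, K⁆ = ⊥ := by
      rw [show ⁅R, T⁆ = ⊥ by
        rw [commutator_comm, commutator_eq_bot_iff_le_centralizer]; exact inf_le_right,
        commutator_bot_left]
    have h2 : ⁅⁅T, K⁆, R⁆ = ⊥ := by
      rw [commutator_eq_bot_iff_le_centralizer, commutator_le]
      intro c hc k hk
      have hc' := mem_inf.1 hc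
      refine hUa (mem_inf.2 ⟨?_, ?_⟩)
      · rw [commutatorElement_def, mul_assoc, mul_assoc, ← mul_assoc k]
        exact mul_mem hc'.1 (hUn.conj_mem _ (inv_mem hc'.1) k)
      · rw [mem_centralizer_iff]
        intro b hb
        rw [Set.mem_singleton_iff.1 hb, commutatorElement_def]
        have hca : Commute c a := (mem_centralizer_iff.1 hc'.2 a ha).symm
        have hka : Commute k a := (mem_centralizer_iff.1 (mem_inf.1 (hK hk)).2 a rfl).symm
        exact (((hca.mul_left hka).mul_left hca.inv_left).mul_left hka.inv_left).symm.eq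
    have h3 := commutator_commutator_eq_bot_of_rotate h1 h2
    rwa [hKR, commutator_eq_bot_iff_le_centralizer] at h3
  have hYU : Y ≤ centralizer ((U ⊓ centralizer (R : Set X) : Subgroup X) : Set X) := by
    refine hgen.trans (sup_le hKU fun x hx => mem_centralizer_iff.2 fun c hc => ?_)
    have hc' := mem_inf.1 hc
    have hm := commutator_mem_inf_of_normalizes hx hc'.1
      (le_normalizer_of_normal (H := U) (mem_top x)) (hX1C (mem_inf.2 ⟨hUY hc'.1, hc'.2⟩))
    rw [inf_comm, hUX, mem_bot, commutatorElement_eq_one_iff_mul_comm] at hm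
    exact hm.symm
  have hKUK : K ≤ centralizer ((K ⊓ U : Subgroup X) : Set X) := fun k hk =>
    mem_centralizer_iff.2 fun y hy => mem_centralizer_iff.1 (hKU hk) y
      (mem_inf.2 ⟨(mem_inf.1 hy).2, hUa (mem_inf.2 ⟨(mem_inf.1 hy).2, (mem_inf.1 (hK (mem_inf.1 hy).1)).2⟩)⟩)
  -- the quotient by `U`
  let f := QuotientGroup.mk' U
  have hfs : Function.Surjective f := QuotientGroup.mk'_surjective U
  have hker : f.ker = U := QuotientGroup.ker_mk' U
  have hkerY : f.ker ≤ Y := hker.le.trans hUY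
  haveI hYn : (Y.map f).Normal := Normal.map inferInstance f hfs
  have hmapa : ∀ c, f c ∈ Y.map f → f c ∈ centralizer ({f a} : Set (X ⧸ U)) →
      ∃ c' ∈ Y, c' ∈ centralizer ({a} : Set X) ∧ f c' = f c := by
    intro c hcY hca
    have hm : f c ∈ (Y ⊓ centralizer ({a} : Set X)).map f := by
      rw [h.map_centralizer_singleton f ha]
      exact mem_inf.2 ⟨hcY, hca⟩
    obtain ⟨c', hc', hcc⟩ := hm
    exact ⟨c', (mem_inf.1 hc').1, (mem_inf.1 hc').2, hcc⟩
  have hphat : phat p (Y.map f) (R.map f) ≤ X₁.map f :=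
    (h.phat_map_le_of_coprime f hkerY (by rw [hker]; exact hUcop) (by rw [hker]; exact hYU)).trans
      (map_mono hmax)
  have hFstar : Cfsg.generalizedFittingSubgroup ↥(Y.map f) = Cfsg.pCore p ↥(Y.map f) := by
    refine generalizedFitting_eq_pCore_of_setup (Q := Q.map f) (X₀ := X₀.map f) (V := V.map f)
      (h.map f) (mem_map_of_mem f ha) ?_ ?_ ?_ ?_ (map_mono hX1) (hX1p.map f)
      (le_normalizer_map f hX1R) ?_ hphat ?_ ?_ (map_mono hVX) (le_normalizer_map f hVY)
      (map_mono hX0) ?_ (map_mono hQ) (le_normalizer_map f hKQ) ?_ ?_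
    · rintro _ ⟨r, hr, rfl⟩
      exact (hab r hr).map f
    · rw [← h.map_centralizer_singleton f ha]
      exact map_mono hK
    · rw [← map_commutator, hKR]
    · rintro _ ⟨c, hc, rfl⟩ hca _ ⟨r, hr, rfl⟩
      obtain ⟨c', hc'Y, hc'a, hcc⟩ := hmapa c (mem_map_of_mem f hc) hca
      rw [← hcc, ← map_commutatorElement]
      exact mem_map_of_mem f (hKc c' hc'Y hc'a r hr)
    · rw [← h.map_centralizer f]
      exact le_normalizer_map f hX1C
    · rw [← Subgroup.map_sup]
      exact map_mono hgen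
    · intro U' hU' hU'cop hU'Y
      obtain ⟨hWY, hWmap⟩ := map_eq_of_le_of_comap f hU' hkerY
      have hle : U'.comap f ≤ U := by
        set T := U'.comap f with hT
        haveI : (T.subgroupOf Y).Normal :=
          (normal_subgroupOf_iff_le_normalizer hWY).2 (le_normalizer_comap f hU'Y)
        have hcop : (Nat.card ↥(T.subgroupOf Y)).Coprime p := by
          rw [Nat.card_congr (subgroupOfEquivOfLe hWY).toEquiv]
          have hc := card_map_mul_card_ker_inf f T
          rw [hWmap] at hc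
          rw [← hc]
          exact Nat.Coprime.mul_left
            (hUcop.coprime_dvd_left (card_dvd_of_le (inf_le_right.trans hker.le))) hU'cop
        have := map_mono (f := Y.subtype) (PLocal.le_pPrimeCore hcop)
        rwa [map_subgroupOf_eq_of_le hWY] at this
      rw [← hWmap, Subgroup.map_eq_bot_iff, hker]
      exact hle
    · -- self-centralising
      intro x hx
      obtain ⟨⟨x₀, hx₀, rfl⟩, hxc⟩ := mem_inf.1 hx
      refine mem_map_of_mem f (hself (mem_inf.2 ⟨hx₀, mem_centralizer_iff.2 fun v hv => ?_⟩))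
      have h1 := mem_centralizer_iff.1 hxc _ (mem_map_of_mem f hv)
      rw [← commutatorElement_eq_one_iff_mul_comm, ← map_commutatorElement, ← MonoidHom.mem_ker,
        hker] at h1
      have h2 : ⁅v, x₀⁆ ∈ U ⊓ X₁ := mem_inf.2 ⟨h1, mul_mem (mul_mem (mul_mem (hVX hv) (hX0 hx₀))
        (inv_mem (hVX hv))) (inv_mem (hX0 hx₀))⟩
      rwa [hUX, mem_bot, commutatorElement_eq_one_iff_mul_comm] at h2
    · -- the largest normal `p`-subgroup
      intro U' hU'K hU'p hU'n
      set T := U'.comap f ⊓ K with hT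
      have hTK : T ≤ K := inf_le_right
      have hKT : K ≤ normalizer (T : Set X) :=
        le_normalizer_inf (le_normalizer_comap f hU'n) le_normalizer
      have hres : pResOf p T ≤ K ⊓ U := by
        refine pResOf_le_of_forall fun t ht htc => mem_inf.2 ⟨hTK ht, ?_⟩
        rw [← hker, MonoidHom.mem_ker]
        obtain ⟨k, hk⟩ := hU'p ⟨f t, (mem_inf.1 ht).1⟩
        exact orderOf_eq_one_iff.1 (Nat.eq_one_of_dvd_coprimes (htc.pow_right k)
          (orderOf_map_dvd f t) (orderOf_dvd_of_pow_eq_one (congrArg Subtype.val hk :)))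
      obtain ⟨S⟩ : Nonempty (Sylow p ↥T) := inferInstance
      have hcenS : Cfsg.pResidual p ↥T ≤ centralizer ((S : Subgroup ↥T) : Set ↥T) := by
        intro x hx
        refine mem_centralizer_iff.2 fun t _ => Subtype.ext ?_
        have hxm : (x : X) ∈ pResOf p T := by rw [← map_pResidual]; exact mem_map_of_mem _ hx
        exact (mem_centralizer_iff.1 (hKUK (hTK t.2)) _ (hres hxm)).symm
      haveI hSn : (S : Subgroup ↥T).Normal := normalizer_eq_top_iff.1 (top_unique
        ((sylow_sup_pResidual S).ge.trans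
          (sup_le le_normalizer (hcenS.trans (centralizer_le_normalizer _)))))
      have hSQ : (S : Subgroup ↥T).map T.subtype ≤ Q := by
        refine hQmax _ ((map_subtype_le _).trans hTK) (S.2.map _) ?_
        haveI := Sylow.characteristic_of_normal S hSn
        exact hKT.trans (Components.normalizer_le_normalizer_map_subtype _ _)
      intro z hz
      obtain ⟨k, hk, rfl⟩ := hU'K hz
      have hkT : k ∈ T := mem_inf.2 ⟨hz, hk⟩
      have htop : (⟨k, hkT⟩ : ↥T) ∈ (S : Subgroup ↥T) ⊔ Cfsg.pResidual p ↥T := by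
        rw [sylow_sup_pResidual]; exact mem_top _
      obtain ⟨s, hs, c, hc, hsc⟩ := mem_sup_of_normal_left.1 htop
      have hcU : (c : X) ∈ f.ker := by
        rw [hker]; exact (mem_inf.1 (hres (by rw [← map_pResidual]; exact mem_map_of_mem _ hc))).2
      rw [show k = (s : X) * c from (congrArg Subtype.val hsc).symm, map_mul,
        MonoidHom.mem_ker.1 hcU, mul_one]
      exact mem_map_of_mem f (hSQ (mem_map_of_mem _ hs))
    · -- the local hypothesis
      intro y hy hyp hyQ
      obtain ⟨x, hx, rfl, hxp⟩ := exists_coprime_lift f K hy hyp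
      have hxQ : x ∈ centralizer (Q : Set X) := mem_centralizer_iff.2 fun q hq => by
        have h1 := mem_centralizer_iff.1 hyQ _ (mem_map_of_mem f hq)
        rw [← commutatorElement_eq_one_iff_mul_comm, ← map_commutatorElement, ← MonoidHom.mem_ker,
          hker] at h1
        have h2 : ⁅q, x⁆ ∈ U ⊓ X₁ := by
          refine mem_inf.2 ⟨h1, ?_⟩
          rw [commutatorElement_def, mul_assoc, mul_assoc, ← mul_assoc x]
          exact hQX (mul_mem hq ((mem_normalizer_iff.1 (hKQ hx) _).1 (inv_mem hq)))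
        rwa [hUX, mem_bot, commutatorElement_eq_one_iff_mul_comm] at h2
      rw [mem_centralizer_iff]
      rintro _ ⟨r, hr, rfl⟩
      rw [← map_mul, ← map_mul, mem_centralizer_iff.1 (hloc x hx hxp hxQ) r hr]
  -- the functor in the quotient
  set W₁ := Cfsg.inducedFunctor W X₁ with hW₁
  have hW₁X : W₁ ≤ X₁ := GoodFunctor.induced_le W X₁
  have hX₁ker : X₁ ⊓ f.ker = ⊥ := by rw [hker, inf_comm, hUX]
  have hP : phat p (Y.map f) (R.map f) = X₁.map f := by
    refine le_antisymm hphat ((h.map f).le_phat (map_mono hX1) (hX1p.map f) (le_normalizer_map f hX1R) ?_)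
    rw [← h.map_centralizer f]
    exact le_normalizer_map f hX1C
  obtain ⟨r, hrp, hRr, hYr⟩ := hr
  have hzj := hW.zj (X ⧸ U) (Y.map f) (R.map f) (h.map f)
    ⟨r, hrp, hRr.map f, hYr.coprime_dvd_left (Subgroup.card_map_dvd _ _)⟩ hFstar
  rw [hP, ← hW.induced_map hX1p f hX₁ker, ← hW₁] at hzj
  have hW₁cop : (Nat.card ↥U).Coprime (Nat.card ↥W₁) := by
    obtain ⟨k, hk⟩ := IsPGroup.iff_card.1 (hX1p.to_le hW₁X)
    rw [hk]
    exact hUcop.pow_right k
  have hRW : R ≤ normalizer (W₁ : Set X) := hX1R.trans (hW.normalizer_le hX1p)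
  -- Frattini argument
  rw [← hKR, commutator_le]
  intro c hc s hs
  have hsup : U ⊔ W₁ = U ⊔ MulAut.conj c • W₁ := by
    have e1 : ∀ H : Subgroup X, U ⊔ H = (H.map f).comap f := fun H => by
      rw [comap_map_eq, hker, sup_comm]
    rw [e1, e1]
    congr 1
    have e2 : (MulAut.conj c • W₁).map f = MulAut.conj (f c) • W₁.map f := by
      ext z
      constructor
      · rintro ⟨w, hw, rfl⟩
        rw [SetLike.mem_coe, Coprime.mem_conj_smul] at hw
        rw [Coprime.mem_conj_smul]
        exact ⟨_, hw, by rw [map_mul, map_mul, map_inv]⟩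
      · rw [Coprime.mem_conj_smul]
        rintro ⟨w, hw, hwz⟩
        refine ⟨c * w * c⁻¹, ?_, by rw [map_mul, map_mul, map_inv, hwz]; group⟩
        rw [SetLike.mem_coe, Coprime.mem_conj_smul]
        simpa [mul_assoc] using hw
    rw [e2, Coprime.conj_smul_eq_self (hzj (mem_map_of_mem f (hKY hc)))]
  obtain ⟨n, hn, hnW⟩ := Coprime.exists_conj_eq_of_sup_eq (le_normalizer_of_normal (H := U))
    (le_normalizer_of_normal (H := U)) hW₁cop (Coprime.card_conj_smul c W₁) hsup
    (Or.inr (by haveI := (hX1p.to_le hW₁X).isNilpotent; infer_instance))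
  have hm : n⁻¹ * c ∈ Y ⊓ normalizer (W₁ : Set X) := by
    refine mem_inf.2 ⟨mul_mem (inv_mem (hUY hn)) (hKY hc), ?_⟩
    rw [Coprime.mem_normalizer_iff_conj_smul_eq, ← Coprime.conj_smul_conj_smul, ← hnW,
      Coprime.conj_smul_conj_smul, inv_mul_cancel, map_one, one_smul]
  have hVn : R ≤ normalizer ((Y ⊓ normalizer (W₁ : Set X) : Subgroup X) : Set X) :=
    le_normalizer_inf h.norm (hRW.trans le_normalizer)
  have hza : Acts Y (zpowers a) := h.zpowers ha
  obtain ⟨e, he, m, hm', heq⟩ := Coprime.exists_mul_eq_of_mem_centralizer (A := zpowers a)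
    (le_normalizer_of_normal (H := U)) ((zpowers_le.2 ha).trans hVn)
    (hza.cop.coprime_dvd_right (card_dvd_of_le (inf_le_left.trans hUY))) (Or.inl hza.solv)
    hn hm (by rw [centralizer_zpowers]; simpa using (mem_inf.1 (hK hc)).2)
  rw [centralizer_zpowers] at he hm'
  have heR := hUa (mem_inf.2 (mem_inf.1 he))
  have hk : ⁅m, s⁆ ∈ K := hKc m (mem_inf.1 (mem_inf.1 hm').1).1 (mem_inf.1 hm').2 s hs
  have hmW : m ∈ normalizer (W₁ : Set X) := (mem_inf.1 (mem_inf.1 hm').1).2
  have hce : c = e * m := by rw [← heq]; group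
  rw [hce, commutator_mul_eq_of_commute ((mem_centralizer_iff.1 heR s hs).symm)
    (mem_centralizer_iff.1 (hKU hk) e (mem_inf.2 ⟨(mem_inf.1 he).1, heR⟩))]
  rw [commutatorElement_def]
  exact mul_mem (mul_mem (mul_mem hmW (hRW hs)) (inv_mem hmW)) (inv_mem (hRW hs))

end CfsgLib.FGS74.EquivZJ
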