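import Cfsg.Agent.FGS74.EquivZJ.Setup

/-!
# The functor value of the intersection of the invariant Sylow subgroups is normalised by `K`
-/

set_option autoImplicit false
set_option linter.style.haveILetI false

namespace CfsgLib.FGS74.EquivZJ

open Subgroup Pointwise
open CfsgLib.LocalStructure
open scoped commutatorElement

universe u

variable {X : Type u} [Group X]

theorem le_normalizer_subgroupOf {A U : Subgroup X} (S : Subgroup X)
    (h : A ≤ normalizer (U : Set X)) :
    A.subgroupOf S ≤ normalizer ((U.subgroupOf S : Subgroup ↥S) : Set ↥S) :=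
  le_normalizer_comap S.subtype ((map_comap_le _ _).trans h)

theorem le_normalizer_sup {A U V : Subgroup X} (hU : A ≤ normalizer (U : Set X))
    (hV : A ≤ normalizer (V : Set X)) : A ≤ normalizer ((U ⊔ V : Subgroup X) : Set X) := by
  intro g hg
  rw [Coprime.mem_normalizer_iff_conj_smul_eq, smul_sup, Coprime.conj_smul_eq_self (hU hg),
    Coprime.conj_smul_eq_self (hV hg)]

theorem le_normalizer_normalizer {A U : Subgroup X} (h : A ≤ normalizer (U : Set X)) :
    A ≤ normalizer ((normalizer (U : Set X) : Subgroup X) : Set X) :=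
  h.trans le_normalizer

variable [Finite X] {p : ℕ} [Fact p.Prime]
variable {W : ∀ (Q : Type u) [Group Q], Subgroup Q}

/-- `le_normalizer_induced_of_setup` without the assumption that `Y` is normal. -/
theorem le_normalizer_induced_of_setup' {Y R K X₁ Q X₀ V : Subgroup X} {a : X}
    (hW : GoodFunctor p W) (h : Acts Y R)
    (hr : ∃ r : ℕ, r.Prime ∧ IsPGroup r ↥R ∧ (Nat.card ↥Y).Coprime r)
    (ha : a ∈ R) (hab : ∀ r ∈ R, Commute a r)
    (hK : K ≤ Y ⊓ centralizer ({a} : Set X)) (hKR : ⁅K, R⁆ = K)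
    (hKc : ∀ c ∈ Y, c ∈ centralizer ({a} : Set X) → ∀ r ∈ R, ⁅c, r⁆ ∈ K)
    (hX1 : X₁ ≤ Y) (hX1p : IsPGroup p ↥X₁) (hX1R : R ≤ normalizer (X₁ : Set X))
    (hX1C : Y ⊓ centralizer (R : Set X) ≤ normalizer (X₁ : Set X))
    (hmax : phat p Y R ≤ X₁) (hgen : Y ≤ K ⊔ X₁)
    (hVX : V ≤ X₁) (hVY : Y ≤ normalizer (V : Set X))
    (hX0 : X₀ ≤ X₁) (hself : X₀ ⊓ centralizer (V : Set X) ≤ V)
    (hQ : Q ≤ X₀) (hKQ : K ≤ normalizer (Q : Set X))
    (hQmax : ∀ U : Subgroup X, U ≤ K → IsPGroup p ↥U → K ≤ normalizer (U : Set X) → U ≤ Q)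
    (hloc : ∀ y ∈ K, (orderOf y).Coprime p → y ∈ centralizer (Q : Set X) →
      y ∈ centralizer (R : Set X)) :
    K ≤ normalizer ((Cfsg.inducedFunctor W X₁ : Subgroup X) : Set X) := by
  set S := Y ⊔ R with hS
  have hYS : Y ≤ S := le_sup_left
  have hRS : R ≤ S := le_sup_right
  have hKY : K ≤ Y := hK.trans inf_le_left
  have hKS : K ≤ S := hKY.trans hYS
  have hX1S : X₁ ≤ S := hX1.trans hYS
  have hVS : V ≤ S := hVX.trans hX1S
  have hX0S : X₀ ≤ S := hX0.trans hX1S
  have hQS : Q ≤ S := hQ.trans hX0S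
  haveI : (Y.subgroupOf S).Normal :=
    (normal_subgroupOf_iff_le_normalizer hYS).2 (sup_le le_normalizer h.norm)
  have hA : Acts (Y.subgroupOf S) (R.subgroupOf S) :=
    ⟨le_normalizer_subgroupOf S h.norm, by
      rw [Nat.card_congr (subgroupOfEquivOfLe hYS).toEquiv,
        Nat.card_congr (subgroupOfEquivOfLe hRS).toEquiv]
      exact h.cop, by
      haveI := h.solv
      exact Group.isSolvable_of_surjective (f := (subgroupOfEquivOfLe hRS).symm.toMonoidHom)
        (subgroupOfEquivOfLe hRS).symm.surjective⟩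
  have key : K.subgroupOf S ≤
      normalizer ((Cfsg.inducedFunctor W (X₁.subgroupOf S) : Subgroup ↥S) : Set ↥S) := by
    refine le_normalizer_induced_of_setup (X₀ := X₀.subgroupOf S) (V := V.subgroupOf S)
      (Q := Q.subgroupOf S) (a := ⟨a, hRS ha⟩) hW hA ?_ (mem_subgroupOf.2 ha) ?_ ?_ ?_ ?_
      (comap_mono (f := S.subtype) hX1) ?_ (le_normalizer_subgroupOf S hX1R) ?_ ?_ ?_
      (comap_mono (f := S.subtype) hVX) (le_normalizer_subgroupOf S hVY)
      (comap_mono (f := S.subtype) hX0) ?_ (comap_mono (f := S.subtype) hQ) (le_normalizer_subgroupOf S hKQ)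
      ?_ ?_
    · obtain ⟨r, hrp, hRr, hYr⟩ := hr
      refine ⟨r, hrp, IsPGroup.comap_subtype hRr, ?_⟩
      rwa [Nat.card_congr (subgroupOfEquivOfLe hYS).toEquiv]
    · intro r hr'
      exact Subtype.ext (hab r (mem_subgroupOf.1 hr')).eq
    · intro k hk
      have := mem_inf.1 (hK (mem_subgroupOf.1 hk))
      refine mem_inf.2 ⟨mem_subgroupOf.2 this.1, mem_centralizer_iff.2 fun b hb => ?_⟩
      rw [Set.mem_singleton_iff.1 hb]
      exact Subtype.ext (mem_centralizer_iff.1 this.2 a rfl)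
    · refine map_injective S.subtype_injective ?_
      rw [map_commutator, map_subgroupOf_eq_of_le hKS, map_subgroupOf_eq_of_le hRS, hKR]
    · intro c hc hca r hr'
      refine mem_subgroupOf.2 ?_
      exact hKc c (mem_subgroupOf.1 hc) (mem_centralizer_iff.2 fun b hb => by
        rw [Set.mem_singleton_iff.1 hb]
        exact congrArg Subtype.val (mem_centralizer_iff.1 hca ⟨a, hRS ha⟩ rfl)) r
        (mem_subgroupOf.1 hr')
    · exact IsPGroup.comap_subtype hX1p
    · refine le_normalizer_comap S.subtype ?_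
      rintro _ ⟨x, hx, rfl⟩
      have hx' := mem_inf.1 hx
      refine hX1C (mem_inf.2 ⟨mem_subgroupOf.1 hx'.1, mem_centralizer_iff.2 fun r hr' => ?_⟩)
      exact congrArg Subtype.val
        (mem_centralizer_iff.1 hx'.2 ⟨r, hRS hr'⟩ (mem_subgroupOf.2 hr'))
    · refine map_le_iff_le_comap.1 (le_trans ?_ hmax)
      refine h.le_phat ((map_mono hA.phat_le).trans (map_comap_le _ _))
        (hA.isPGroup_phat.map _) ?_ ?_
      · have := le_normalizer_map S.subtype
          (Acts.R_le_normalizer_phat (p := p) (Y := Y.subgroupOf S) (R := R.subgroupOf S))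
        rwa [map_subgroupOf_eq_of_le hRS] at this
      · intro g hg
        have hg' := mem_inf.1 hg
        refine le_normalizer_map S.subtype (A := zpowers (⟨g, hYS hg'.1⟩ : ↥S)) ?_
          (mem_map_of_mem S.subtype (mem_zpowers _))
        rw [zpowers_le]
        refine Acts.mem_normalizer_phat (le_normalizer (mem_subgroupOf.2 hg'.1))
          (mem_centralizer_iff.2 fun r hr' => ?_)
        exact Subtype.ext (mem_centralizer_iff.1 hg'.2 r (mem_subgroupOf.1 hr'))
    · rw [← subgroupOf_sup hKS hX1S]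
      exact comap_mono (f := S.subtype) hgen
    · intro x hx
      have hx' := mem_inf.1 hx
      refine mem_subgroupOf.2 (hself (mem_inf.2 ⟨mem_subgroupOf.1 hx'.1,
        mem_centralizer_iff.2 fun v hv => ?_⟩))
      exact congrArg Subtype.val (mem_centralizer_iff.1 hx'.2 ⟨v, hVS hv⟩ (mem_subgroupOf.2 hv))
    · intro U hU hUp hUn
      have hKU : K ≤ normalizer ((U.map S.subtype : Subgroup X) : Set X) := by
        have := le_normalizer_map S.subtype hUn
        rwa [map_subgroupOf_eq_of_le hKS] at this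
      exact map_le_iff_le_comap.1
        (hQmax _ ((map_mono hU).trans (map_comap_le _ _)) (hUp.map _) hKU)
    · intro y hy hyp hyQ
      have := hloc y (mem_subgroupOf.1 hy) (by rwa [orderOf_coe]) (mem_centralizer_iff.2 fun q hq =>
        congrArg Subtype.val (mem_centralizer_iff.1 hyQ ⟨q, hQS hq⟩ (mem_subgroupOf.2 hq)))
      exact mem_centralizer_iff.2 fun r hr' =>
        Subtype.ext (mem_centralizer_iff.1 this r (mem_subgroupOf.1 hr'))
  have hpS : IsPGroup p ↥(X₁.subgroupOf S) := IsPGroup.comap_subtype hX1p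
  have := le_normalizer_map S.subtype key
  rwa [map_subgroupOf_eq_of_le hKS, hW.induced_map hpS S.subtype
    (by rw [ker_subtype, inf_bot_eq]), map_subgroupOf_eq_of_le hX1S] at this

variable {G R : Subgroup X} {a : X}

/-- `K = [C_G(a), R]` normalises the functor value of `phat p G R`. -/
theorem le_normalizer_induced_phat (hW : GoodFunctor p W) (h : Acts G R)
    (hr : ∃ r : ℕ, r.Prime ∧ IsPGroup r ↥R ∧ (Nat.card ↥G).Coprime r)
    (ha : a ∈ R) (hab : ∀ r ∈ R, Commute a r)
    (hloc : ∀ y ∈ ⁅G ⊓ centralizer ({a} : Set X), R⁆, (orderOf y).Coprime p →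
      y ∈ centralizer ((Cfsg.pCoreOf p ⁅G ⊓ centralizer ({a} : Set X), R⁆ : Subgroup X) : Set X) →
      y ∈ centralizer (R : Set X)) :
    ⁅G ⊓ centralizer ({a} : Set X), R⁆ ≤
      normalizer ((Cfsg.inducedFunctor W (phat p G R) : Subgroup X) : Set X) := by
  set C := G ⊓ centralizer ({a} : Set X) with hC
  set K := ⁅C, R⁆ with hKdef
  set Q := Cfsg.pCoreOf p K with hQdef
  set P := phat p G R with hPdef
  have hRa : R ≤ normalizer ((centralizer ({a} : Set X) : Subgroup X) : Set X) := by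
    rw [← centralizer_zpowers]
    refine le_normalizer_centralizer_of fun r hr' => centralizer_le_normalizer _ ?_
    rw [centralizer_zpowers, mem_centralizer_iff]
    intro b hb
    rw [Set.mem_singleton_iff.1 hb]
    exact (hab r hr').eq
  have hRC : R ≤ normalizer (C : Set X) := le_normalizer_inf h.norm hRa
  have hKC : K ≤ C := Coprime.commutator_le_of_le_normalizer hRC
  have hKG : K ≤ G := hKC.trans inf_le_left
  have hKR : ⁅K, R⁆ = K :=
    Coprime.commutator_commutator_eq hRC (h.mono inf_le_left hRC).cop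
  have hRK : R ≤ normalizer (K : Set X) := normalizer_commutator_ge_right C R
  have hCRC : G ⊓ centralizer (R : Set X) ≤ C := by
    refine inf_le_inf_left _ (centralizer_le ?_)
    exact Set.singleton_subset_iff.2 ha
  have hCK : G ⊓ centralizer (R : Set X) ≤ normalizer (K : Set X) :=
    hCRC.trans (normalizer_commutator_ge_left C R)
  have hKQ : K ≤ normalizer (Q : Set X) := le_normalizer_pCoreOf K
  have hQP : Q ≤ P := h.le_phat ((pCoreOf_le K).trans hKG) (pCoreOf_isPGroup K)
    (hRK.trans (normalizer_le_normalizer_pCoreOf K))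
    (hCK.trans (normalizer_le_normalizer_pCoreOf K))
  have hPp : IsPGroup p ↥P := h.isPGroup_phat
  let good : Subgroup X → Prop := fun X₀ => X₀ ≤ P ∧ R ≤ normalizer (X₀ : Set X) ∧
    G ⊓ centralizer (R : Set X) ≤ normalizer (X₀ : Set X) ∧ Q ≤ X₀ ∧
    K ≤ normalizer ((Cfsg.inducedFunctor W X₀ : Subgroup X) : Set X)
  have hgQ : good Q := ⟨hQP, hRK.trans (normalizer_le_normalizer_pCoreOf K),
    hCK.trans (normalizer_le_normalizer_pCoreOf K), le_rfl,
    hKQ.trans (hW.normalizer_le (pCoreOf_isPGroup K))⟩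
  obtain ⟨X₀, -, ⟨hX0P, hX0R, hX0C, hQX0, hKX0⟩, hmaxX⟩ :=
    Finite.exists_le_maximal (p := good) hgQ
  have hX0p : IsPGroup p ↥X₀ := hPp.to_le hX0P
  set V := Cfsg.inducedFunctor W X₀ with hV
  have hN0 : normalizer (X₀ : Set X) ≤ normalizer (V : Set X) := hW.normalizer_le hX0p
  set X₁ := P ⊓ normalizer (V : Set X) with hX₁
  have hX01 : X₀ ≤ X₁ := le_inf hX0P (le_normalizer.trans hN0)
  have hX1R : R ≤ normalizer (X₁ : Set X) :=
    le_normalizer_inf Acts.R_le_normalizer_phat (le_normalizer_normalizer (hX0R.trans hN0))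
  have hCP : G ⊓ centralizer (R : Set X) ≤ normalizer (P : Set X) := fun g hg =>
    Acts.mem_normalizer_phat (le_normalizer (mem_inf.1 hg).1) (mem_inf.1 hg).2
  have hX1C : G ⊓ centralizer (R : Set X) ≤ normalizer (X₁ : Set X) :=
    le_normalizer_inf hCP (le_normalizer_normalizer (hX0C.trans hN0))
  set Y := K ⊔ X₁ with hY
  have hYG : Y ≤ G := sup_le hKG (inf_le_left.trans h.phat_le)
  have hYR : R ≤ normalizer (Y : Set X) := le_normalizer_sup hRK hX1R
  have hYC : G ⊓ centralizer (R : Set X) ≤ normalizer (Y : Set X) := le_normalizer_sup hCK hX1C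
  have hYV : Y ≤ normalizer (V : Set X) := sup_le hKX0 inf_le_right
  have hA : Acts Y R := h.mono hYG hYR
  have hmax : phat p Y R ≤ X₁ := le_inf
    (h.le_phat (hA.phat_le.trans hYG) hA.isPGroup_phat Acts.R_le_normalizer_phat fun g hg =>
      Acts.mem_normalizer_phat (hYC hg) (mem_inf.1 hg).2)
    (hA.phat_le.trans hYV)
  have key := le_normalizer_induced_of_setup' (X₀ := X₀) (V := V) (Q := Q) (X₁ := X₁) (K := K)
    (Y := Y) hW hA
    (by
      obtain ⟨r, hrp, hRr, hGr⟩ := hr
      exact ⟨r, hrp, hRr, hGr.coprime_dvd_left (card_dvd_of_le hYG)⟩)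
    ha hab (le_inf le_sup_left (hKC.trans inf_le_right)) hKR
    (fun c hc hca r hr' => commutator_mem_commutator (mem_inf.2 ⟨hYG hc, hca⟩) hr')
    le_sup_right (hPp.to_le inf_le_left) hX1R ((inf_le_inf_right _ hYG).trans hX1C) hmax le_rfl
    ((GoodFunctor.induced_le W X₀).trans hX01) hYV hX01 (hW.induced_self_centralizing hX0p) hQX0
    hKQ (fun U hU hUp hUn => le_pCoreOf hU hUn hUp) hloc
  have heq : X₁ ≤ X₀ := hmaxX ⟨inf_le_left, hX1R, hX1C, hQX0.trans hX01, key⟩ hX01
  -- normalisers grow in `p`-groups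
  have hX0eq : X₀ = P := by
    haveI := hPp.isNilpotent
    by_contra hne
    have hlt : X₀.subgroupOf P < ⊤ := lt_of_le_of_ne le_top fun he =>
      hne (le_antisymm hX0P (subgroupOf_eq_top.1 he))
    refine absurd (Group.normalizerCondition_of_isNilpotent _ hlt) (not_lt_of_ge fun x hx => ?_)
    have hx' : (x : X) ∈ normalizer (X₀ : Set X) := by
      have := le_normalizer_map P.subtype (A := zpowers x) (zpowers_le.2 hx)
        (mem_map_of_mem P.subtype (mem_zpowers x))
      rwa [map_subgroupOf_eq_of_le hX0P] at this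
    exact mem_subgroupOf.2 (heq (mem_inf.2 ⟨x.2, hN0 hx'⟩))
  rw [hV, hX0eq] at hKX0
  exact hKX0

end CfsgLib.FGS74.EquivZJ
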